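import Mathlib
import Cfsg.Agent.Lib.Char.Burnside

/-!
# Groups with element orders dividing `2r` or `q`, acting with trivial norms

The local algebra behind S3406: a group `X` all of whose elements satisfy `x ^ (2r) = 1` or `x ^ q = 1`,
acting on an abelian `r`-group in such a way that every element of odd prime order has trivial norm.
-/

set_option autoImplicit false
set_option linter.unusedSectionVars false
set_option linter.unusedSimpArgs false
set_option linter.style.haveILetI false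

namespace CfsgLib.FiveOrbits

open Finset

/-- The two odd primes. -/
structure TwoPrimes (q r : ℕ) : Prop where
  hq : q.Prime
  hr : r.Prime
  q2 : q ≠ 2
  r2 : r ≠ 2
  qr : q ≠ r

/-- Element orders divide `2r` or `q`. -/
def Ord (q r : ℕ) (X : Type*) [Group X] : Prop := ∀ x : X, x ^ (2 * r) = 1 ∨ x ^ q = 1

/-- `g` has trivial norm of length `p`. -/
def NormOne {A : Type*} [CommGroup A] (p : ℕ) (g : MulAut A) : Prop :=
  ∀ a : A, ∏ i ∈ range p, (g ^ i) a = 1

theorem eq_one_of_coprime {M : Type*} [Monoid M] {x : M} {a b : ℕ} (hab : Nat.Coprime a b)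
    (ha : x ^ a = 1) (hb : x ^ b = 1) : x = 1 := by
  have h := pow_gcd_eq_one.2 ⟨ha, hb⟩
  rwa [hab.gcd_eq_one, pow_one] at h

namespace TwoPrimes

variable {q r : ℕ} (P : TwoPrimes q r)
include P

theorem q_two : Nat.Coprime q 2 := (Nat.coprime_primes P.hq Nat.prime_two).2 P.q2

theorem r_two : Nat.Coprime r 2 := (Nat.coprime_primes P.hr Nat.prime_two).2 P.r2

theorem q_r : Nat.Coprime q r := (Nat.coprime_primes P.hq P.hr).2 P.qr

theorem q_two_r : Nat.Coprime q (2 * r) := P.q_two.mul_right P.q_r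

theorem two_dvd_succ : 2 ∣ r + 1 := by
  obtain ⟨k, hk⟩ := P.hr.odd_of_ne_two P.r2
  exact ⟨k + 1, by omega⟩

end TwoPrimes

namespace Ord

variable {q r : ℕ} {X : Type*} [Group X] (P : TwoPrimes q r) (h : Ord q r X)
include P h

theorem sq_of_two_pow {x : X} {k : ℕ} (hx : x ^ 2 ^ k = 1) : x ^ 2 = 1 := by
  rcases h x with h' | h'
  · refine eq_one_of_coprime (P.r_two.pow_right k) ?_ ?_
    · rw [← pow_mul]; exact h'
    · rw [← pow_mul, mul_comm, pow_mul, hx, one_pow]
  · rw [eq_one_of_coprime (P.q_two.pow_right k) h' hx, one_pow]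

theorem pow_r_of_r_pow {x : X} {k : ℕ} (hx : x ^ r ^ k = 1) : x ^ r = 1 := by
  rcases h x with h' | h'
  · refine eq_one_of_coprime (a := 2) (P.r_two.symm.pow_right k) ?_ ?_
    · rw [← pow_mul, mul_comm]; exact h'
    · rw [← pow_mul, mul_comm, pow_mul, hx, one_pow]
  · rw [eq_one_of_coprime (P.q_r.pow_right k) h' hx, one_pow]

theorem pow_q_of_q_pow {x : X} {k : ℕ} (hx : x ^ q ^ k = 1) : x ^ q = 1 := by
  rcases h x with h' | h'
  · rw [eq_one_of_coprime (P.q_two_r.pow_left k) hx h', one_pow]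
  · exact h'

/-- No element of order `qs`, `s ∣ 2r`. -/
theorem eq_one_of_commute {g y : X} (hg : g ^ q = 1) (hy : y ^ (2 * r) = 1) (hc : Commute g y) :
    g = 1 ∨ y = 1 := by
  rcases h (g * y) with h' | h'
  · rw [hc.mul_pow, hy, mul_one] at h'
    exact Or.inl (eq_one_of_coprime P.q_two_r hg h')
  · rw [hc.mul_pow, hg, one_mul] at h'
    exact Or.inr (eq_one_of_coprime P.q_two_r h' hy)

theorem prime_dvd {s : ℕ} (hs : s.Prime) [Finite X] (hd : s ∣ Nat.card X) : s = 2 ∨ s = q ∨ s = r := by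
  haveI : Fact s.Prime := ⟨hs⟩
  obtain ⟨x, hx⟩ := exists_prime_orderOf_dvd_card' s hd
  rcases h x with h' | h' <;> have h'' := hx ▸ orderOf_dvd_of_pow_eq_one h'
  · rcases hs.dvd_mul.1 h'' with h3 | h3
    · exact Or.inl ((Nat.prime_dvd_prime_iff_eq hs Nat.prime_two).1 h3)
    · exact Or.inr (Or.inr ((Nat.prime_dvd_prime_iff_eq hs P.hr).1 h3))
  · exact Or.inr (Or.inl ((Nat.prime_dvd_prime_iff_eq hs P.hq).1 h''))

end Ord

section Sum

variable {A : Type*} [CommGroup A]

/-- An automorphism as an endomorphism of the additive group. -/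
def toEnd : MulAut A →* AddMonoid.End (Additive A) where
  toFun e := MonoidHom.toAdditive e.toMonoidHom
  map_one' := rfl
  map_mul' _ _ := rfl

theorem toEnd_apply (e : MulAut A) (a : A) : toEnd e (Additive.ofMul a) = Additive.ofMul (e a) := rfl

theorem NormOne.sum_eq_zero {p : ℕ} {g : MulAut A} (h : NormOne p g) :
    ∑ i ∈ range p, toEnd g ^ i = 0 := by
  refine AddMonoidHom.ext fun x => ?_
  refine (AddMonoidHom.finsetSum_apply (fun i => (toEnd g ^ i : AddMonoid.End (Additive A))) (range p) x).trans ?_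
  obtain ⟨a, rfl⟩ := Additive.ofMul.surjective x
  simp only [← map_pow]
  show ∑ i ∈ range p, Additive.ofMul ((g ^ i) a) = Additive.ofMul 1
  rw [← ofMul_prod, h a]

/-- Two commuting automorphisms generating a group of rank two all of whose elements have trivial
norm force the exponent of `A` to divide `r`. -/
theorem pow_eq_one_of_rank_two {r : ℕ} {g k : MulAut A} (hc : Commute g k)
    (hg : ∀ i, 0 < i → i < r → NormOne r (g ^ i))
    (hk : ∀ j, j < r → NormOne r (g ^ j * k)) (a : A) : a ^ r = 1 := by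
  have hsum : ∑ i ∈ range r, (∑ j ∈ range r, toEnd g ^ (i * j)) * toEnd k ^ i = 0 := by
    have : ∑ j ∈ range r, ∑ i ∈ range r, toEnd (g ^ j * k) ^ i = 0 :=
      Finset.sum_eq_zero fun j hj => (hk j (mem_range.1 hj)).sum_eq_zero
    rw [Finset.sum_comm] at this
    rw [← this]
    refine Finset.sum_congr rfl fun i _ => ?_
    rw [Finset.sum_mul]
    refine Finset.sum_congr rfl fun j _ => ?_
    simp only [← map_pow, ← map_mul, (hc.pow_left j).mul_pow, ← pow_mul, mul_comm i j]
  rcases Nat.eq_zero_or_pos r with rfl | hr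
  · simp
  rw [← Finset.add_sum_erase _ _ (mem_range.2 hr)] at hsum
  have hzero : ∀ i ∈ (range r).erase 0, (∑ j ∈ range r, toEnd g ^ (i * j)) * toEnd k ^ i = 0 := by
    intro i hi
    obtain ⟨hi0, hi⟩ := mem_erase.1 hi
    have := (hg i (Nat.pos_of_ne_zero hi0) (mem_range.1 hi)).sum_eq_zero
    simp only [← map_pow, ← pow_mul] at this ⊢
    rw [this, zero_mul]
  rw [Finset.sum_eq_zero hzero, add_zero] at hsum
  simp only [zero_mul, pow_zero, Finset.sum_const, card_range, mul_one] at hsum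
  have := DFunLike.congr_fun hsum (Additive.ofMul a)
  simpa [AddMonoid.End.one_apply, ← ofMul_pow] using congrArg Additive.toMul this

variable {X : Type*} [Group X]

theorem conj_mul_pow_range {g : X} (W : Subgroup X) (hW : ∀ x ∈ W, ∀ y ∈ W, x * y = y * x)
    (hn : ∀ x ∈ W, g * x * g⁻¹ ∈ W) (k : ℕ) {x : X} (hx : x ∈ W) :
    ∃ y ∈ W, x⁻¹ * g ^ k * x * (g ^ k)⁻¹ = y⁻¹ * g * y * g⁻¹ := by
  induction k with
  | zero => exact ⟨1, W.one_mem, by group⟩
  | succ k ih =>
    obtain ⟨y, hy, he⟩ := ih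
    refine ⟨x * (g * y * g⁻¹), W.mul_mem hx (hn y hy), ?_⟩
    have h1 : x⁻¹ * g ^ (k + 1) * x * (g ^ (k + 1))⁻¹ =
        (x⁻¹ * g * x * g⁻¹) * (g * (x⁻¹ * g ^ k * x * (g ^ k)⁻¹) * g⁻¹) := by
      rw [pow_succ']; group
    rw [h1, he]
    have hψx : x⁻¹ * g * x * g⁻¹ ∈ W := by
      rw [mul_assoc x⁻¹ g x, mul_assoc x⁻¹]; exact W.mul_mem (W.inv_mem hx) (hn x hx)
    have hz : (g * y * g⁻¹)⁻¹ ∈ W := W.inv_mem (hn y hy)
    calc x⁻¹ * g * x * g⁻¹ * (g * (y⁻¹ * g * y * g⁻¹) * g⁻¹)
        = (x⁻¹ * g * x * g⁻¹) * (g * y * g⁻¹)⁻¹ * (g * (g * y * g⁻¹) * g⁻¹) := by group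
      _ = (g * y * g⁻¹)⁻¹ * (x⁻¹ * g * x * g⁻¹) * (g * (g * y * g⁻¹) * g⁻¹) := by rw [hW _ hψx _ hz]
      _ = _ := by group

/-- An element with trivial norm centralises every abelian subgroup it normalises whose order acts
injectively. -/
theorem commute_of_normOne (ρ : X →* MulAut A) (hρ : Function.Injective ρ) {g : X} {p : ℕ}
    (hp : p.Prime) (hg : g ^ p = 1) (hN : NormOne p (ρ g))
    (W : Subgroup X) [Finite W] (hW : ∀ x ∈ W, ∀ y ∈ W, x * y = y * x)
    (hn : ∀ x ∈ W, g * x * g⁻¹ ∈ W) (hinj : ∀ a : A, a ^ Nat.card W = 1 → a = 1) :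
    ∀ x ∈ W, g * x = x * g := by
  classical
  haveI := Fintype.ofFinite W
  intro x₀ hx₀
  set c : X := x₀⁻¹ * g * x₀ * g⁻¹ with hc
  set E : X →* AddMonoid.End (Additive A) := toEnd.comp ρ with hE
  have hnk : ∀ (i : ℕ), ∀ x ∈ W, g ^ i * x * (g ^ i)⁻¹ ∈ W := by
    intro i
    induction i with
    | zero => intro x hx; simpa using hx
    | succ i ih => intro x hx; rw [pow_succ']; simpa [mul_assoc] using hn _ (ih x hx)
  let ψ : ℕ → X → X := fun i x => x⁻¹ * g ^ i * x * (g ^ i)⁻¹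
  have hψm : ∀ i, ∀ x ∈ W, ψ i x ∈ W := fun i x hx => by
    show x⁻¹ * g ^ i * x * (g ^ i)⁻¹ ∈ W
    rw [mul_assoc x⁻¹, mul_assoc x⁻¹]; exact W.mul_mem (W.inv_mem hx) (hnk i x hx)
  have hψ : ∀ i, ∀ x ∈ W, ∀ y ∈ W, ψ i (x * y) = ψ i x * ψ i y := by
    intro i x hx y hy
    show (x * y)⁻¹ * g ^ i * (x * y) * (g ^ i)⁻¹ = _
    calc _ = y⁻¹ * ψ i x * (g ^ i * y * (g ^ i)⁻¹) := by simp only [ψ]; group
      _ = ψ i x * y⁻¹ * (g ^ i * y * (g ^ i)⁻¹) := by rw [hW _ (W.inv_mem hy) _ (hψm i x hx)]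
      _ = _ := by simp only [ψ]; group
  let S : ℕ → AddMonoid.End (Additive A) := fun i => ∑ x : W, E (ψ i (x : X))
  have hfix : ∀ i, 0 < i → i < p → E c * S i = S i := by
    intro i hi hip
    have hcop : Nat.Coprime i (orderOf g) :=
      Nat.Coprime.coprime_dvd_right (orderOf_dvd_of_pow_eq_one hg)
        (Nat.coprime_of_lt_prime hi.ne' hip hp).symm
    obtain ⟨k, hk⟩ := exists_pow_eq_self_of_coprime hcop
    obtain ⟨y, hy, he⟩ := conj_mul_pow_range (g := g ^ i) W hW (hnk i) k hx₀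
    rw [hk] at he
    simp only [S, Finset.mul_sum, ← map_mul]
    rw [hc, he]
    change ∑ x : W, E (ψ i y * ψ i (x : X)) = _
    simp only [← hψ i y hy _ (Subtype.prop _)]
    exact Fintype.sum_equiv (Equiv.mulLeft ⟨y, hy⟩) _ (fun x : W => E (ψ i (x : X))) fun x => rfl
  have htot : ∑ i ∈ range p, S i * E g ^ i = 0 := by
    simp only [S, Finset.sum_mul]
    rw [Finset.sum_comm]
    refine Finset.sum_eq_zero fun x _ => ?_
    have : ∀ i, E (ψ i (x : X)) * E g ^ i = E (x : X)⁻¹ * E g ^ i * E (x : X) := by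
      intro i
      simp only [← map_pow, ← map_mul, ψ]
      rw [inv_mul_cancel_right]
    rw [Finset.sum_congr rfl fun i _ => this i, ← Finset.sum_mul, ← Finset.mul_sum]
    have h0 : ∑ i ∈ range p, E g ^ i = 0 := hN.sum_eq_zero
    rw [h0, mul_zero, zero_mul]
  rw [← Finset.add_sum_erase _ _ (mem_range.2 hp.pos)] at htot
  set T := ∑ i ∈ (range p).erase 0, S i * E g ^ i with hT
  have hT1 : E c * T = T := by
    rw [hT, Finset.mul_sum]
    refine Finset.sum_congr rfl fun i hi => ?_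
    obtain ⟨hi0, hi⟩ := mem_erase.1 hi
    rw [← mul_assoc, hfix i (Nat.pos_of_ne_zero hi0) (mem_range.1 hi)]
  have hS0 : S 0 * E g ^ 0 = Nat.card W • (1 : AddMonoid.End (Additive A)) := by
    simp [S, ψ, Nat.card_eq_fintype_card, ← map_mul]
  rw [hS0] at htot
  have hkey : Nat.card W • E c = Nat.card W • (1 : AddMonoid.End (Additive A)) := by
    have h1 : E c * (Nat.card W • 1 + T) = 0 := by rw [htot, mul_zero]
    rw [mul_add, hT1, mul_smul_comm, mul_one] at h1
    exact add_right_cancel (h1.trans htot.symm)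
  have hρc : ρ c = 1 := by
    refine MulEquiv.ext fun a => ?_
    have := congrArg Additive.toMul (DFunLike.congr_fun hkey (Additive.ofMul a))
    have h2 : (ρ c a) ^ Nat.card W = a ^ Nat.card W := by
      simpa [AddMonoidHom.smul_apply, AddMonoid.End.one_apply, ← ofMul_pow, hE, toEnd_apply] using this
    rw [MulAut.one_apply]
    refine mul_inv_eq_one.1 (hinj _ ?_)
    rw [mul_pow, inv_pow, h2, mul_inv_cancel]
  have hc1 : c = 1 := hρ (by rw [hρc, map_one])
  rw [hc] at hc1
  calc g * x₀ = x₀ * (x₀⁻¹ * g * x₀ * g⁻¹) * g := by group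
    _ = x₀ * g := by rw [hc1, mul_one]

/-- Powers in an extension by an abelian group. -/
theorem mul_pow_norm {G : Type*} [Group G] (ι : A →* G) (h : G) (g : MulAut A)
    (hg : ∀ a, h * ι a * h⁻¹ = ι (g a)) (a : A) (n : ℕ) :
    (ι a * h) ^ n = ι (∏ i ∈ range n, (g ^ i) a) * h ^ n := by
  have hpow : ∀ (n : ℕ) (b : A), h ^ n * ι b = ι ((g ^ n) b) * h ^ n := by
    intro n
    induction n with
    | zero => intro b; simp
    | succ n ih =>
      intro b
      rw [pow_succ h, mul_assoc, show h * ι b = ι (g b) * h by rw [← hg b]; group, ← mul_assoc,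
        ih, mul_assoc, pow_succ g, MulAut.mul_apply]
  induction n with
  | zero => simp
  | succ n ih =>
    rw [pow_succ, ih, prod_range_succ, map_mul, pow_succ h]
    calc ι (∏ i ∈ range n, (g ^ i) a) * h ^ n * (ι a * h)
        = ι (∏ i ∈ range n, (g ^ i) a) * (h ^ n * ι a) * h := by group
      _ = _ := by rw [hpow]; group

end Sum

/-- An action in which elements of odd prime order have trivial norm. -/
structure Act (q r : ℕ) {X A : Type*} [Group X] [CommGroup A] (ρ : X →* MulAut A) : Prop where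
  ord : Ord q r X
  inj : Function.Injective ρ
  norm : ∀ p, p = q ∨ p = r → ∀ g : X, g ^ p = 1 → g ≠ 1 → NormOne p (ρ g)
  torsion : ∀ a : A, ∃ k, a ^ r ^ k = 1

section Local

variable {q r : ℕ} (P : TwoPrimes q r)
include P

/-- In a normal subgroup `W` of odd order, containing all `r`-elements and without normal abelian
`q`-subgroups, an abelian Sylow `r`-subgroup contains every `r`-element. -/
theorem r_elements_mem {X : Type*} [Group X] [Finite X] (ho : Ord q r X) (R : Sylow r X)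
    (hab : ∀ a ∈ (R : Subgroup X), ∀ b ∈ (R : Subgroup X), a * b = b * a)
    (W : Subgroup X) [hWn : W.Normal] (hodd : Odd (Nat.card W)) (hW : ∀ x : X, x ^ r = 1 → x ∈ W)
    (hD : ∀ D : Subgroup X, D.Normal → (∀ a ∈ D, ∀ b ∈ D, a * b = b * a) → (∀ a ∈ D, a ^ q = 1) → D = ⊥) :
    ∀ x : X, x ^ r = 1 → x ∈ (R : Subgroup X) := by
  haveI : Fact r.Prime := ⟨P.hr⟩
  intro x hx
  by_cases hWb : W = ⊥
  · have := hW x hx
    rw [hWb, Subgroup.mem_bot] at this
    rw [this]; exact one_mem _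
  have hWord : ∀ w ∈ W, w ^ r = 1 ∨ w ^ q = 1 := by
    intro w hw
    rcases ho w with h | h
    · left
      refine eq_one_of_coprime (a := 2) (b := Nat.card W) hodd.coprime_two_left ?_ ?_
      · rw [← pow_mul, mul_comm]; exact h
      · have : (⟨w, hw⟩ : W) ^ Nat.card W = 1 := pow_card_eq_one'
        have h2 : w ^ Nat.card W = 1 := congrArg Subtype.val this
        rw [← pow_mul, mul_comm, pow_mul, h2, one_pow]
    · exact Or.inr h
  have hprimes : ∀ s : ℕ, s.Prime → s ∣ Nat.card W → s = q ∨ s = r := by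
    intro s hs hsd
    rcases ho.prime_dvd P hs (hsd.trans W.card_subgroup_dvd_card) with h | h
    · subst h
      exact absurd hsd (fun h => (Nat.not_even_iff_odd.2 hodd) (even_iff_two_dvd.2 h))
    · exact h
  haveI hsol : Group.IsSolvable W := CfsgLib.Char.isSolvable_of_two_primes q r P.hq P.hr _ W rfl hprimes
  obtain ⟨D, hDn, hDW, hDne, hDab⟩ : ∃ D : Subgroup X, D.Normal ∧ D ≤ W ∧ D ≠ ⊥ ∧
      ∀ a ∈ D, ∀ b ∈ D, a * b = b * a := by
    obtain ⟨n, hn⟩ := hsol.solvable
    classical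
    have hex : ∃ m, derivedSeries W m = ⊥ := ⟨n, hn⟩
    have hm0 : Nat.find hex ≠ 0 := by
      intro h0
      have := Nat.find_spec hex
      rw [h0, derivedSeries_zero] at this
      apply hWb
      rw [← W.range_subtype, MonoidHom.range_eq_map, this, Subgroup.map_bot]
    obtain ⟨k, hk⟩ := Nat.exists_eq_succ_of_ne_zero hm0
    have hkb : derivedSeries W k ≠ ⊥ := Nat.find_min hex (by omega)
    have hk1 : derivedSeries W (k + 1) = ⊥ := by
      have := Nat.find_spec hex
      rwa [hk] at this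
    rw [derivedSeries_succ, Subgroup.commutator_eq_bot_iff_le_centralizer] at hk1
    refine ⟨(derivedSeries W k).map W.subtype, inferInstance, Subgroup.map_subtype_le _, ?_, ?_⟩
    · rw [Ne, Subgroup.map_eq_bot_iff_of_injective _ W.subtype_injective]; exact hkb
    · rintro _ ⟨a, ha, rfl⟩ _ ⟨b, hb, rfl⟩
      rw [← map_mul, ← map_mul, Subgroup.mem_centralizer_iff.1 (hk1 hb) a ha]
  haveI := hDn
  have hDr : ∀ a ∈ D, a ^ r = 1 := by
    intro a ha
    rcases hWord a (hDW ha) with h | h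
    · exact h
    · by_contra har
      refine hDne (hD D hDn hDab fun b hb => ?_)
      rcases hWord b (hDW hb) with h' | h'
      · rcases ho.eq_one_of_commute P h (y := b) (by rw [mul_comm, pow_mul, h', one_pow])
          (hDab a ha b hb) with h2 | h2
        · exact absurd (by rw [h2, one_pow]) har
        · rw [h2, one_pow]
      · exact h'
  have hDR : D ≤ (R : Subgroup X) := by
    have hp : IsPGroup r D := fun a => ⟨1, Subtype.ext (by simpa using hDr _ a.2)⟩
    have := R.3 (hp.to_sup_of_normal_left R.2) le_sup_right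
    exact le_sup_left.trans this.le
  set C : Subgroup X := Subgroup.centralizer (D : Set X) ⊓ W with hC
  have hRC : (R : Subgroup X) ≤ C := fun a ha => ⟨Subgroup.mem_centralizer_iff.2 fun d hd =>
    hab d (hDR hd) a ha, hW a (by
      obtain ⟨k, hk⟩ := R.2 ⟨a, ha⟩
      exact ho.pow_r_of_r_pow P (congrArg Subtype.val hk))⟩
  have hCp : IsPGroup r C := by
    rintro ⟨y, hy1, hy2⟩
    refine ⟨1, Subtype.ext ?_⟩
    rw [pow_one]
    show y ^ r = 1
    rcases hWord y hy2 with h | h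
    · exact h
    · obtain ⟨⟨d, hd⟩, hd1'⟩ := D.ne_bot_iff_exists_ne_one.1 hDne
      have hd1 : d ≠ 1 := fun h' => hd1' (Subtype.ext h')
      rcases ho.eq_one_of_commute P h (y := d) (by rw [mul_comm, pow_mul, hDr d hd, one_pow])
        ((Subgroup.mem_centralizer_iff.1 hy1 d hd).symm) with h2 | h2
      · rw [h2, one_pow]
      · exact absurd h2 hd1
  have hCR : C = (R : Subgroup X) := R.3 hCp hRC
  haveI : (R : Subgroup X).Normal := by rw [← hCR]; infer_instance
  have hz : IsPGroup r (Subgroup.zpowers x) := by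
    rintro ⟨_, j, rfl⟩
    refine ⟨1, Subtype.ext ?_⟩
    show (x ^ j) ^ (r ^ 1) = 1
    rw [pow_one, ← zpow_natCast, ← zpow_mul, mul_comm, zpow_mul, zpow_natCast, hx, one_zpow]
  have := R.3 (hz.to_sup_of_normal_right R.2) le_sup_right
  exact this.le (Subgroup.mem_sup_left (Subgroup.mem_zpowers x))

variable {X A : Type*} [Group X] [Finite X] [CommGroup A] {ρ : X →* MulAut A}

/-- An abelian subgroup of order prime to `r` is centralised by every element of order `q` or `r`
normalising it. -/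
theorem Act.commute (h : Act q r ρ) {p : ℕ} (hp : p = q ∨ p = r) {g : X} (hg : g ^ p = 1)
    (W : Subgroup X) (hW : ∀ x ∈ W, ∀ y ∈ W, x * y = y * x) (hn : ∀ x ∈ W, g * x * g⁻¹ ∈ W)
    (hcard : Nat.Coprime r (Nat.card W)) : ∀ x ∈ W, g * x = x * g := by
  by_cases hg1 : g = 1
  · intro x _; rw [hg1, one_mul, mul_one]
  refine commute_of_normOne ρ h.inj (hp.elim (· ▸ P.hq) (· ▸ P.hr)) hg (h.norm p hp g hg hg1) W hW hn ?_
  intro a ha
  obtain ⟨k, hk⟩ := h.torsion a
  exact eq_one_of_coprime (hcard.pow_left k) hk ha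

/-- The Sylow 2-subgroup has a normal complement. -/
theorem Act.exists_odd_normal (h : Act q r ρ) :
    ∃ W : Subgroup X, W.Normal ∧ Odd (Nat.card W) ∧ ∀ (m : ℕ) (x : X), Odd m → x ^ m = 1 → x ∈ W := by
  haveI : Fact (Nat.Prime 2) := ⟨Nat.prime_two⟩
  obtain ⟨T⟩ : Nonempty (Sylow 2 X) := inferInstance
  have hsq : ∀ a ∈ (T : Subgroup X), a ^ 2 = 1 := by
    intro a ha
    obtain ⟨k, hk⟩ := T.2 ⟨a, ha⟩
    exact h.ord.sq_of_two_pow P (congrArg Subtype.val hk)
  have hTab : ∀ a ∈ (T : Subgroup X), ∀ b ∈ (T : Subgroup X), a * b = b * a := by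
    intro a ha b hb
    have h1 : ∀ c ∈ (T : Subgroup X), c⁻¹ = c := fun c hc =>
      inv_eq_of_mul_eq_one_right (by rw [← sq]; exact hsq c hc)
    calc a * b = (a * b)⁻¹ := (h1 _ (mul_mem ha hb)).symm
      _ = b * a := by rw [mul_inv_rev, h1 a ha, h1 b hb]
  have hcop : Nat.Coprime r (Nat.card (T : Subgroup X)) := by
    obtain ⟨n, hn⟩ := T.2.exists_card_eq
    rw [hn]; exact P.r_two.pow_right n
  have hcomm : Subgroup.normalizer ((T : Subgroup X) : Set X) ≤
      Subgroup.centralizer ((T : Subgroup X) : Set X) := by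
    intro y hy
    have hnorm : ∀ n : ℕ, ∀ a ∈ (T : Subgroup X), y ^ n * a * (y ^ n)⁻¹ ∈ (T : Subgroup X) := fun n a ha =>
      ((pow_mem hy n : y ^ n ∈ Subgroup.normalizer ((T : Subgroup X) : Set X)) a).1 ha
    rw [Subgroup.mem_centralizer_iff]
    intro a ha
    rcases h.ord y with hy' | hy'
    · have h1 : ∀ b ∈ (T : Subgroup X), y ^ (r + 1) * b = b * y ^ (r + 1) := by
        refine Act.commute P h (Or.inr rfl) ?_ _ hTab (hnorm _) hcop
        obtain ⟨k, hk⟩ := P.two_dvd_succ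
        rw [← pow_mul, hk, show 2 * k * r = 2 * r * k by ring, pow_mul, hy', one_pow]
      have h2 : y ^ r ∈ (T : Subgroup X) := by
        have hz : IsPGroup 2 (Subgroup.zpowers (y ^ r)) := by
          rintro ⟨_, j, rfl⟩
          refine ⟨1, Subtype.ext ?_⟩
          show ((y ^ r) ^ j) ^ (2 ^ 1) = 1
          rw [pow_one, ← zpow_natCast, ← zpow_mul, mul_comm, zpow_mul, zpow_natCast, ← pow_mul,
            mul_comm, hy', one_zpow]
        have hle : Subgroup.zpowers (y ^ r) ≤ Subgroup.normalizer ((T : Subgroup X) : Set X) :=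
          Subgroup.zpowers_le.2 (pow_mem hy r)
        have := T.3 (hz.to_sup_of_normal_right' T.2 hle) le_sup_right
        exact this.le (Subgroup.mem_sup_left (Subgroup.mem_zpowers _))
      have hyy : y = (y ^ r)⁻¹ * y ^ (r + 1) := by rw [pow_succ, inv_mul_cancel_left]
      rw [hyy]
      calc a * ((y ^ r)⁻¹ * y ^ (r + 1)) = (y ^ r)⁻¹ * (a * y ^ (r + 1)) := by
            rw [← mul_assoc, hTab a ha _ (inv_mem h2), mul_assoc]
        _ = _ := by rw [← h1 a ha, mul_assoc]
    · exact (Act.commute P h (Or.inl rfl) hy' _ hTab (fun b hb => (hy b).1 hb) hcop a ha).symm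
  refine ⟨(MonoidHom.transferSylow T hcomm).ker, inferInstance, ?_, ?_⟩
  · rw [← Nat.not_even_iff_odd, even_iff_two_dvd]
    exact MonoidHom.not_dvd_card_ker_transferSylow T hcomm
  · intro m x hm hx
    rw [MonoidHom.mem_ker]
    obtain ⟨k, hk⟩ := T.2 (MonoidHom.transferSylow T hcomm x)
    exact eq_one_of_coprime ((Nat.coprime_two_right.2 hm).pow_right k) (by rw [← map_pow, hx, map_one]) hk

/-- In an action an abelian Sylow `r`-subgroup is normal. -/
theorem Act.mem_sylow (h : Act q r ρ) (R : Sylow r X)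
    (hab : ∀ a ∈ (R : Subgroup X), ∀ b ∈ (R : Subgroup X), a * b = b * a) {x : X} (hx : x ^ r = 1) :
    x ∈ (R : Subgroup X) := by
  by_cases hx1 : x = 1
  · rw [hx1]; exact one_mem _
  obtain ⟨W, hWn, hWodd, hW⟩ := h.exists_odd_normal P
  haveI := hWn
  refine r_elements_mem P h.ord R hab W hWodd (fun y hy => hW r y (P.hr.odd_of_ne_two P.r2) hy) ?_ x hx
  intro D hD hDab hDq
  rw [eq_bot_iff]
  intro d hd
  rw [Subgroup.mem_bot]
  have hDp : IsPGroup q D := fun a => ⟨1, Subtype.ext (by simpa using hDq _ a.2)⟩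
  haveI : Fact q.Prime := ⟨P.hq⟩
  obtain ⟨n, hn⟩ := hDp.exists_card_eq
  have hc := Act.commute P h (Or.inr rfl) hx D hDab (fun a ha => hD.conj_mem a ha x)
    (hn ▸ P.q_r.symm.pow_right n) d hd
  rcases h.ord.eq_one_of_commute P (hDq d hd) (y := x) (by rw [mul_comm, pow_mul, hx, one_pow]) hc.symm
    with h2 | h2
  · exact h2
  · exact absurd h2 hx1

end Local

end CfsgLib.FiveOrbits
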