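import Cfsg.Agent.Lib.FiveOrbits.Act

/-!
# Simple groups with element orders `1, 2, q, r, 2r`, automorphism-transitive on each order

Sylow subgroups and centralisers.
-/

set_option autoImplicit false
set_option linter.unusedSectionVars false
set_option linter.unusedSimpArgs false
set_option linter.style.haveILetI false

namespace CfsgLib.FiveOrbits

open Finset
open scoped IsMulCommutative Pointwise

/-- The hypotheses on the group. -/
structure Hyp (G : Type*) [Group G] (q r : ℕ) : Prop where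
  two : TwoPrimes q r
  ord : Ord q r G
  trans : ∀ g h : G, orderOf g = orderOf h → ∃ α : MulAut G, α g = h
  exists_two_r : ∃ g : G, orderOf g = 2 * r
  notPrime : ¬ (Nat.card G).Prime

variable {G : Type*} [Group G]

/-- Conjugation action of a subgroup of the normalizer. -/
def conjHom (A T : Subgroup G) (hT : T ≤ Subgroup.normalizer (A : Set G)) : T →* MulAut A :=
  A.normalizerMonoidHom.comp (Subgroup.inclusion hT)

theorem conjHom_apply {A T : Subgroup G} (hT : T ≤ Subgroup.normalizer (A : Set G)) (n : T) (a : A) :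
    ((conjHom A T hT n a : A) : G) = (n : G) * (a : G) * (n : G)⁻¹ := rfl

theorem conjHom_eq_one_iff {A T : Subgroup G} (hT : T ≤ Subgroup.normalizer (A : Set G)) (n : T) :
    conjHom A T hT n = 1 ↔ ∀ a ∈ A, (n : G) * a = a * (n : G) := by
  constructor
  · intro h a ha
    have := congrArg Subtype.val (DFunLike.congr_fun h ⟨a, ha⟩)
    rw [conjHom_apply] at this
    exact mul_inv_eq_iff_eq_mul.1 this
  · intro h
    refine MulEquiv.ext fun a => Subtype.ext ?_
    rw [conjHom_apply, MulAut.one_apply, mul_inv_eq_iff_eq_mul]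
    exact h a a.2

theorem mem_centralizer_singleton {x y : G} :
    y ∈ Subgroup.centralizer ({x} : Set G) ↔ x * y = y * x := by
  rw [Subgroup.mem_centralizer_iff]; simp

namespace Hyp

variable {q r : ℕ} [Finite G] [IsSimpleGroup G] (h : Hyp G q r)
include h

theorem fact_r : Fact r.Prime := ⟨h.two.hr⟩

theorem sylow_two_sq {S : Subgroup G} (hS : IsPGroup 2 S) {a : G} (ha : a ∈ S) : a ^ 2 = 1 := by
  obtain ⟨k, hk⟩ := hS ⟨a, ha⟩
  exact h.ord.sq_of_two_pow h.two (congrArg Subtype.val hk)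

theorem sylow_two_comm {S : Subgroup G} (hS : IsPGroup 2 S) {a b : G} (ha : a ∈ S) (hb : b ∈ S) :
    a * b = b * a := by
  have h1 : ∀ c ∈ S, c⁻¹ = c := fun c hc =>
    inv_eq_of_mul_eq_one_right (by rw [← sq]; exact h.sylow_two_sq hS hc)
  calc a * b = (a * b)⁻¹ := (h1 _ (mul_mem ha hb)).symm
    _ = b * a := by rw [mul_inv_rev, h1 a ha, h1 b hb]

theorem pow_r {S : Subgroup G} (hS : IsPGroup r S) {a : G} (ha : a ∈ S) : a ^ r = 1 := by
  obtain ⟨k, hk⟩ := hS ⟨a, ha⟩
  exact h.ord.pow_r_of_r_pow h.two (congrArg Subtype.val hk)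

/-- Burnside: no nontrivial element centralises a Sylow 2- and a Sylow `r`-subgroup. -/
theorem false_of_class {g : G} (hg : g ≠ 1) (S : Sylow 2 G) (hS : ∀ s ∈ (S : Subgroup G), g * s = s * g)
    (R : Sylow r G) (hR : ∀ s ∈ (R : Subgroup G), g * s = s * g) : False := by
  haveI := h.fact_r
  haveI : Fact (Nat.Prime 2) := ⟨Nat.prime_two⟩
  set C := Subgroup.centralizer ({g} : Set G) with hC
  have h2 : ¬ 2 ∣ C.index := fun hd =>
    S.not_dvd_index (hd.trans (Subgroup.index_dvd_of_le fun s hs => mem_centralizer_singleton.2 (hS s hs)))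
  have hr : ¬ r ∣ C.index := fun hd =>
    R.not_dvd_index (hd.trans (Subgroup.index_dvd_of_le fun s hs => mem_centralizer_singleton.2 (hR s hs)))
  have h0 : C.index ≠ 0 := Subgroup.index_ne_zero_of_finite
  have hall : ∀ {s : ℕ}, s.Prime → s ∣ C.index → s = q := by
    intro s hs hd
    rcases h.ord.prime_dvd h.two hs (hd.trans C.index_dvd_card) with h' | h' | h'
    · exact absurd (h' ▸ hd) h2
    · exact h'
    · exact absurd (h' ▸ hd) hr
  exact h.notPrime (CfsgLib.Char.card_prime_of_prime_pow_class q _ h.two.hq g hg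
    (Nat.eq_prime_pow_of_unique_prime_dvd h0 hall))

theorem exists_central_sylow {x : G} (hx : x ^ r = 1) :
    ∃ R : Sylow r G, ∀ a ∈ (R : Subgroup G), x * a = a * x := by
  haveI := h.fact_r
  obtain ⟨R⟩ : Nonempty (Sylow r G) := inferInstance
  by_cases hx1 : x = 1
  · exact ⟨R, fun a _ => by rw [hx1, one_mul, mul_one]⟩
  have ho : orderOf x = r := orderOf_eq_prime hx hx1
  haveI : Nontrivial (R : Subgroup G) := by
    refine (Subgroup.nontrivial_iff_ne_bot _).2 ?_
    exact Sylow.ne_bot_of_dvd_card R (ho ▸ orderOf_dvd_natCard x)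
  haveI : Nontrivial (Subgroup.center (R : Subgroup G)) := IsPGroup.center_nontrivial R.2
  obtain ⟨z, hz⟩ := exists_ne (1 : Subgroup.center (R : Subgroup G))
  have hz1 : ((z : (R : Subgroup G)) : G) ≠ 1 := fun h' => hz (Subtype.ext (Subtype.ext h'))
  obtain ⟨α, hα⟩ := h.trans _ x (((orderOf_eq_prime (h.pow_r R.2 (z : (R : Subgroup G)).2) hz1)).trans ho.symm)
  refine ⟨α • R, fun a ha => ?_⟩
  change a ∈ α • (R : Subgroup G) at ha
  rw [Subgroup.mem_pointwise_smul_iff_inv_smul_mem] at ha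
  have hc := congrArg Subtype.val (Subgroup.mem_center_iff.1 z.2 ⟨_, ha⟩)
  have := congrArg α hc
  simp only [Subgroup.coe_mul, map_mul, MulAut.smul_def, MulAut.apply_inv_self, hα] at this
  exact this.symm

/-- Elements with trivial norm in a conjugation action on an abelian `r`-subgroup. -/
theorem act (A : Subgroup G) [IsMulCommutative A] (hA : IsPGroup r A) {T : Subgroup G}
    (hT : T ≤ Subgroup.normalizer (A : Set G)) : Act q r (conjHom A T hT).range.subtype := by
  refine ⟨?_, Subtype.val_injective, ?_, fun a => hA a⟩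
  · rintro ⟨_, n, rfl⟩
    rcases h.ord (n : G) with h' | h'
    · left; exact Subtype.ext (show conjHom A T hT n ^ (2 * r) = 1 by
        rw [← map_pow, show n ^ (2 * r) = 1 from Subtype.ext h', map_one])
    · right; exact Subtype.ext (show conjHom A T hT n ^ q = 1 by
        rw [← map_pow, show n ^ q = 1 from Subtype.ext h', map_one])
  rintro p hp ⟨_, n, rfl⟩ hg hg1 a
  have hgp : conjHom A T hT n ^ p = 1 := congrArg Subtype.val hg
  have hne : conjHom A T hT n ≠ 1 := fun h' => hg1 (Subtype.ext h')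
  have hkill : ∀ (y : T) (e : ℕ), Nat.Coprime e p → conjHom A T hT y = conjHom A T hT n →
      (y : G) ^ e ≠ 1 := by
    intro y e he hy h'
    refine hne (eq_one_of_coprime he.symm hgp ?_)
    rw [← hy, ← map_pow, show y ^ e = 1 from Subtype.ext h', map_one]
  obtain ⟨m, hm, hmp⟩ : ∃ m : T, conjHom A T hT m = conjHom A T hT n ∧ (m : G) ^ p = 1 := by
    rcases hp with rfl | rfl
    · exact ⟨n, rfl, (h.ord (n : G)).resolve_left (hkill n _ h.two.q_two_r.symm rfl)⟩
    · refine ⟨n ^ (p + 1), by rw [map_pow, pow_succ, hgp, one_mul], ?_⟩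
      have h' := (h.ord (n : G)).resolve_right (hkill n _ h.two.q_r rfl)
      obtain ⟨k, hk⟩ := h.two.two_dvd_succ
      rw [SubgroupClass.coe_pow, ← pow_mul, hk, show 2 * k * p = 2 * p * k by ring, pow_mul, h', one_pow]
  have key := mul_pow_norm A.subtype (m : G) (conjHom A T hT m) (fun b => (conjHom_apply hT m b).symm) a p
  rw [hmp, mul_one, hm] at key
  simp only [Subgroup.subtype_apply] at key
  show ∏ i ∈ range p, (conjHom A T hT n ^ i) a = 1
  set N := ∏ i ∈ range p, (conjHom A T hT n ^ i) a with hN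
  set y : G := (a : G) * (m : G) with hy
  have hyact : ∀ b ∈ A, y * b * y⁻¹ = (m : G) * b * (m : G)⁻¹ := by
    intro b hb
    have hbm : (m : G) * b * (m : G)⁻¹ ∈ A := (conjHom A T hT m ⟨b, hb⟩).2
    have := congrArg Subtype.val (mul_comm' a ⟨_, hbm⟩)
    simp only [Subgroup.coe_mul] at this
    calc y * b * y⁻¹ = (a : G) * ((m : G) * b * (m : G)⁻¹) * (a : G)⁻¹ := by rw [hy]; group
      _ = _ := by rw [this]; group
  have hpow : ∀ (e : ℕ) (b : G), b ∈ A → y ^ e * b * (y ^ e)⁻¹ = (m : G) ^ e * b * ((m : G) ^ e)⁻¹ := by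
    intro e
    induction e with
    | zero => intro b _; simp
    | succ e ih =>
      intro b hb
      have hbm : (m : G) * b * (m : G)⁻¹ ∈ A := (conjHom A T hT m ⟨b, hb⟩).2
      calc y ^ (e + 1) * b * (y ^ (e + 1))⁻¹ = y ^ e * (y * b * y⁻¹) * (y ^ e)⁻¹ := by rw [pow_succ]; group
        _ = _ := by rw [hyact b hb, ih _ hbm, pow_succ]; group
  have hykill : ∀ e : ℕ, Nat.Coprime e p → y ^ e ≠ 1 := by
    intro e he h'
    refine hne (eq_one_of_coprime he.symm hgp ?_)
    rw [← hm, ← map_pow, conjHom_eq_one_iff]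
    intro b hb
    have := hpow e b hb
    rw [h', one_mul, inv_one, mul_one] at this
    rw [SubgroupClass.coe_pow]
    exact mul_inv_eq_iff_eq_mul.1 this.symm
  have hyp : y ^ p = (N : G) := key
  rcases hp with rfl | rfl
  · refine Subtype.ext (hyp.symm.trans ?_)
    exact (h.ord y).resolve_left (hykill _ h.two.q_two_r.symm)
  · have h' := (h.ord y).resolve_right (hykill _ h.two.q_r)
    obtain ⟨k, hk⟩ := hA N
    refine eq_one_of_coprime (h.two.r_two.pow_left k) hk (Subtype.ext ?_)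
    rw [SubgroupClass.coe_pow, ← hyp, ← pow_mul, mul_comm, h']
    rfl

/-- The Sylow `r`-subgroups are abelian. -/
theorem sylow_r_comm (R : Sylow r G) :
    ∀ a ∈ (R : Subgroup G), ∀ b ∈ (R : Subgroup G), a * b = b * a := by
  haveI := h.fact_r
  by_contra hcon
  push Not at hcon
  obtain ⟨a₀, ha₀, b₀, hb₀, hab₀⟩ := hcon
  -- an element of the second centre
  obtain ⟨x, hxc, hx2⟩ : ∃ x : (R : Subgroup G), x ∉ Subgroup.center (R : Subgroup G) ∧
      ∀ k : (R : Subgroup G), k⁻¹ * x * k * x⁻¹ ∈ Subgroup.center (R : Subgroup G) := by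
    haveI : Nontrivial ((R : Subgroup G) ⧸ Subgroup.center (R : Subgroup G)) := by
      rw [QuotientGroup.nontrivial_iff]
      intro hc
      exact hab₀ (congrArg Subtype.val (Subgroup.mem_center_iff.1
        (hc ▸ Subgroup.mem_top (⟨b₀, hb₀⟩ : (R : Subgroup G))) ⟨a₀, ha₀⟩))
    haveI : Nontrivial (Subgroup.center ((R : Subgroup G) ⧸ Subgroup.center (R : Subgroup G))) :=
      IsPGroup.center_nontrivial (R.2.to_quotient _)
    obtain ⟨⟨z, hz⟩, hz1⟩ :=
      exists_ne (1 : Subgroup.center ((R : Subgroup G) ⧸ Subgroup.center (R : Subgroup G)))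
    obtain ⟨x, rfl⟩ := QuotientGroup.mk_surjective z
    refine ⟨x, fun h' => hz1 (Subtype.ext ((QuotientGroup.eq_one_iff x).2 h')), fun k => ?_⟩
    rw [← QuotientGroup.eq_one_iff]
    have := Subgroup.mem_center_iff.1 hz (QuotientGroup.mk k⁻¹)
    rw [QuotientGroup.mk_mul, QuotientGroup.mk_mul, QuotientGroup.mk_mul, this]
    simp [mul_assoc]
  have hxr : (x : G) ^ r = 1 := h.pow_r R.2 x.2
  set E : Subgroup G := (R : Subgroup G) ⊓ Subgroup.centralizer ({(x : G)} : Set G) with hE
  have hzc : ∀ k ∈ (R : Subgroup G), ∀ b ∈ (R : Subgroup G),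
      b * (k⁻¹ * (x : G) * k * (x : G)⁻¹) = (k⁻¹ * (x : G) * k * (x : G)⁻¹) * b := fun k hk b hb =>
    congrArg Subtype.val (Subgroup.mem_center_iff.1 (hx2 ⟨k, hk⟩) ⟨b, hb⟩)
  have hRNE : (R : Subgroup G) ≤ Subgroup.normalizer (E : Set G) := by
    have key : ∀ k ∈ (R : Subgroup G), ∀ e ∈ E, k * e * k⁻¹ ∈ E := by
      intro k hk e he
      refine Subgroup.mem_inf.2 ⟨mul_mem (mul_mem hk he.1) (inv_mem hk), mem_centralizer_singleton.2 ?_⟩
      set z := k⁻¹ * (x : G) * k * (x : G)⁻¹ with hz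
      have h1 : e * z = z * e := hzc k hk e he.1
      have h2 : (x : G) * e = e * x := mem_centralizer_singleton.1 he.2
      calc (x : G) * (k * e * k⁻¹) = k * (z * ((x : G) * e)) * k⁻¹ := by rw [hz]; group
        _ = k * (e * (z * (x : G))) * k⁻¹ := by rw [h2, ← mul_assoc z, ← h1, mul_assoc e z]
        _ = _ := by rw [hz]; group
    intro k hk
    rw [Subgroup.mem_normalizer_iff]
    refine fun e => ⟨key k hk e, fun he => ?_⟩
    have := key k⁻¹ (inv_mem hk) _ he
    simpa [mul_assoc] using this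
  have hcommE : ∀ a ∈ (R : Subgroup G), ∀ b ∈ (R : Subgroup G), a * b * (b * a)⁻¹ ∈ E := by
    intro a ha b hb
    refine Subgroup.mem_inf.2 ⟨mul_mem (mul_mem ha hb) (inv_mem (mul_mem hb ha)), mem_centralizer_singleton.2 ?_⟩
    set za := a⁻¹ * (x : G) * a * (x : G)⁻¹ with hza
    set zb := b⁻¹ * (x : G) * b * (x : G)⁻¹ with hzb
    have h1 : (a * b)⁻¹ * x * (a * b) = za * zb * x := by
      have hza' : b⁻¹ * za = za * b⁻¹ := hzc a ha b⁻¹ (inv_mem hb)
      calc (a * b)⁻¹ * x * (a * b) = b⁻¹ * za * (b * (b⁻¹ * x * b)) := by rw [hza]; group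
        _ = _ := by rw [hza', hzb]; group
    have h2 : (b * a)⁻¹ * x * (b * a) = za * zb * x := by
      have hzz : za * zb = zb * za :=
        hzc b hb za (mul_mem (mul_mem (mul_mem (inv_mem ha) x.2) ha) (inv_mem x.2))
      have hzb' : a⁻¹ * zb = zb * a⁻¹ := hzc b hb a⁻¹ (inv_mem ha)
      calc (b * a)⁻¹ * x * (b * a) = a⁻¹ * zb * (a * (a⁻¹ * x * a)) := by rw [hzb]; group
        _ = zb * za * x := by rw [hzb', hza]; group
        _ = _ := by rw [hzz]
    calc (x : G) * (a * b * (b * a)⁻¹) = (a * b) * ((a * b)⁻¹ * x * (a * b)) * (b * a)⁻¹ := by group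
      _ = (a * b) * ((b * a)⁻¹ * x * (b * a)) * (b * a)⁻¹ := by rw [h1, h2]
      _ = _ := by group
  set A : Subgroup G := E ⊓ Subgroup.centralizer (E : Set G) with hA
  haveI : IsMulCommutative A := IsMulCommutative.of_comm fun a b => Subtype.ext
    (Subgroup.mem_centralizer_iff.1 b.2.2 a a.2.1)
  have hxA : (x : G) ∈ A := ⟨⟨x.2, mem_centralizer_singleton.2 rfl⟩,
    Subgroup.mem_centralizer_iff.2 fun e he => (mem_centralizer_singleton.1 he.2).symm⟩
  have hNA : Subgroup.normalizer (E : Set G) ≤ Subgroup.normalizer (A : Set G) := by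
    have key : ∀ k ∈ Subgroup.normalizer (E : Set G), ∀ e ∈ A, k * e * k⁻¹ ∈ A := by
      intro k hk e he
      refine ⟨(Subgroup.mem_normalizer_iff.1 hk e).1 he.1, Subgroup.mem_centralizer_iff.2 fun f hf => ?_⟩
      have hf' : k⁻¹ * f * k ∈ E := (Subgroup.mem_normalizer_iff''.1 hk f).1 hf
      have h1 := Subgroup.mem_centralizer_iff.1 he.2 _ hf'
      calc f * (k * e * k⁻¹) = k * ((k⁻¹ * f * k) * e) * k⁻¹ := by group
        _ = _ := by rw [h1]; group
    intro k hk
    rw [Subgroup.mem_normalizer_iff]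
    refine fun e => ⟨key k hk e, fun he => ?_⟩
    have := key k⁻¹ (inv_mem hk) _ he
    simpa [mul_assoc] using this
  -- an r-element of C(x) normalising E outside E
  obtain ⟨k, hkN, hkx, hkr, hkE⟩ : ∃ k : G, k ∈ Subgroup.normalizer (E : Set G) ∧ (x : G) * k = k * x ∧
      k ^ r = 1 ∧ k ∉ E := by
    obtain ⟨R', hR'⟩ := h.exists_central_sylow hxr
    have hR'C : (R' : Subgroup G) ≤ Subgroup.centralizer ({(x : G)} : Set G) :=
      fun a ha => mem_centralizer_singleton.2 (hR' a ha)
    have hEp : IsPGroup r (E.subgroupOf (Subgroup.centralizer ({(x : G)} : Set G))) :=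
      (R.2.to_le inf_le_left).of_equiv (Subgroup.subgroupOfEquivOfLe inf_le_right).symm
    obtain ⟨Q, hQ⟩ := hEp.exists_le_sylow
    set P : Subgroup G := (Q : Subgroup _).map (Subgroup.centralizer ({(x : G)} : Set G)).subtype with hP
    have hEP : E ≤ P := fun e he => ⟨⟨e, he.2⟩, hQ (Subgroup.mem_subgroupOf.2 he), rfl⟩
    have hPp : IsPGroup r P := Q.2.map _
    have hcard : Nat.card (R : Subgroup G) ≤ Nat.card P := by
      have h1 : Nat.card (R : Subgroup G) = Nat.card (R' : Subgroup G) := by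
        rw [R.card_eq_multiplicity, R'.card_eq_multiplicity]
      have h2 : Nat.card (((R'.subtype hR'C : Sylow r (Subgroup.centralizer ({(x : G)} : Set G))) :
          Subgroup (Subgroup.centralizer ({(x : G)} : Set G)))) =
          Nat.card (Q : Subgroup (Subgroup.centralizer ({(x : G)} : Set G))) :=
        (R'.subtype hR'C).card_eq_multiplicity.trans Q.card_eq_multiplicity.symm
      rw [h1, hP, Subgroup.card_map_of_injective (Subgroup.subtype_injective _), ← h2, Sylow.coe_subtype]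
      exact (Nat.card_congr (Subgroup.subgroupOfEquivOfLe hR'C).toEquiv).ge
    have hlt : E < P := by
      refine lt_of_le_of_ne hEP fun hEP' => ?_
      have hER : E = (R : Subgroup G) := Subgroup.eq_of_le_of_card_ge inf_le_left (hEP' ▸ hcard)
      refine hxc (Subgroup.mem_center_iff.2 fun b => Subtype.ext ?_)
      have hb : (b : G) ∈ E := hER.symm ▸ b.2
      exact (mem_centralizer_singleton.1 hb.2).symm
    haveI := hPp.isNilpotent
    have hnc : E.subgroupOf P < Subgroup.normalizer ((E.subgroupOf P : Subgroup P) : Set P) :=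
      Group.normalizerCondition_of_isNilpotent _
        (lt_top_iff_ne_top.2 fun h' => hlt.ne (le_antisymm hEP (Subgroup.subgroupOf_eq_top.1 h')))
    obtain ⟨⟨k, hkP⟩, hk1, hk2⟩ := SetLike.exists_of_lt hnc
    refine ⟨k, ?_, ?_, h.pow_r hPp hkP, fun h' => hk2 (Subgroup.mem_subgroupOf.2 h')⟩
    · rw [Subgroup.mem_normalizer_iff]
      intro e
      constructor
      · intro he
        exact Subgroup.mem_subgroupOf.1 ((Subgroup.mem_normalizer_iff.1 hk1 ⟨e, hEP he⟩).1 (Subgroup.mem_subgroupOf.2 he))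
      · intro he
        have heP : e ∈ P := by
          have := P.mul_mem (P.mul_mem (P.inv_mem hkP) (hEP he)) hkP
          simpa [mul_assoc] using this
        exact Subgroup.mem_subgroupOf.1 ((Subgroup.mem_normalizer_iff.1 hk1 ⟨e, heP⟩).2 (Subgroup.mem_subgroupOf.2 he))
    · obtain ⟨⟨k', hk'⟩, -, hk''⟩ := hkP
      exact hk'' ▸ mem_centralizer_singleton.1 hk'
  have hact := h.act A (R.2.to_le (inf_le_left.trans inf_le_left)) hNA
  set ρ := conjHom A (Subgroup.normalizer (E : Set G)) hNA with hρ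
  set RT : Sylow r (Subgroup.normalizer (E : Set G)) := R.subtype hRNE with hRT
  set RX : Sylow r ρ.range := RT.mapSurjective ρ.rangeRestrict_surjective with hRX
  have hker : ∀ n : Subgroup.normalizer (E : Set G), (n : G) ∈ E → ρ n = 1 := fun n hn =>
    (conjHom_eq_one_iff hNA n).2 fun a ha => Subgroup.mem_centralizer_iff.1 ha.2 _ hn
  have hmemRX : ∀ y, y ∈ (RX : Subgroup ρ.range) →
      ∃ g : Subgroup.normalizer (E : Set G), (g : G) ∈ (R : Subgroup G) ∧ ρ.rangeRestrict g = y := by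
    intro y hy
    rw [hRX, Sylow.coe_mapSurjective] at hy
    obtain ⟨g, hg, rfl⟩ := hy
    rw [SetLike.mem_coe, hRT, Sylow.coe_subtype, Subgroup.mem_subgroupOf] at hg
    exact ⟨g, hg, rfl⟩
  have hab : ∀ a ∈ (RX : Subgroup ρ.range), ∀ b ∈ (RX : Subgroup ρ.range), a * b = b * a := by
    intro a ha b hb
    obtain ⟨a, ha', rfl⟩ := hmemRX a ha
    obtain ⟨b, hb', rfl⟩ := hmemRX b hb
    refine Subtype.ext ?_
    show ρ a * ρ b = ρ b * ρ a
    have := hker (a * b * (b * a)⁻¹) (hcommE _ ha' _ hb')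
    rw [map_mul, map_inv, mul_inv_eq_one, map_mul, map_mul] at this
    exact this
  set kT : Subgroup.normalizer (E : Set G) := ⟨k, hkN⟩ with hkT
  have hk1 : ρ kT = 1 := by
    have hxr' : ρ.rangeRestrict kT ^ r = 1 := by
      rw [← map_pow, show kT ^ r = 1 from Subtype.ext hkr, map_one]
    obtain ⟨g, hgR, hg⟩ := hmemRX _ (Act.mem_sylow h.two hact RX hab hxr')
    have hg' : ρ g = ρ kT := congrArg Subtype.val hg
    have hgx : (g : G) ∈ E := by
      refine ⟨hgR, mem_centralizer_singleton.2 ?_⟩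
      have := congrArg Subtype.val (DFunLike.congr_fun hg' ⟨x, hxA⟩)
      rw [hρ, conjHom_apply, conjHom_apply] at this
      have h2 : k * (x : G) * k⁻¹ = x := by rw [← hkx]; group
      have h3 : (g : G) * (x : G) * (g : G)⁻¹ = x := this.trans h2
      exact (mul_inv_eq_iff_eq_mul.1 h3).symm
    rw [← hg', hker g hgx]
  -- k lies in a conjugate of R, hence in a conjugate of E, which is E
  have hzp : IsPGroup r (Subgroup.zpowers kT) := by
    rintro ⟨_, j, rfl⟩
    refine ⟨1, Subtype.ext (Subtype.ext ?_)⟩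
    show (k ^ j) ^ (r ^ 1) = 1
    rw [pow_one, ← zpow_natCast, ← zpow_mul, mul_comm, zpow_mul, zpow_natCast, hkr, one_zpow]
  obtain ⟨Q, hQ⟩ := hzp.exists_le_sylow
  obtain ⟨t, ht⟩ := MulAction.exists_smul_eq (Subgroup.normalizer (E : Set G)) RT Q
  have hkQ : kT ∈ (Q : Subgroup _) := hQ (Subgroup.mem_zpowers _)
  rw [← ht, Sylow.coe_subgroup_smul, Subgroup.mem_pointwise_smul_iff_inv_smul_mem] at hkQ
  rw [hRT, Sylow.coe_subtype, Subgroup.mem_subgroupOf] at hkQ
  set k' := (MulAut.conj t)⁻¹ • kT with hk'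
  have hk'1 : ρ k' = 1 := by
    simp only [hk', MulAut.smul_def, MulAut.conj_inv_apply, map_mul, hk1, map_inv]
    group
  have hk'E : (k' : G) ∈ E := by
    refine ⟨hkQ, mem_centralizer_singleton.2 ((conjHom_eq_one_iff hNA k').1 hk'1 x hxA).symm⟩
  apply hkE
  have := (Subgroup.mem_normalizer_iff.1 t.2 (k' : G)).1 hk'E
  simpa [hk', MulAut.smul_def, MulAut.conj_inv_apply, hkT, mul_assoc] using this

theorem centralizer_eq (R : Sylow r G) (hne : (R : Subgroup G) ≠ ⊥) {y : G}
    (hy : ∀ a ∈ (R : Subgroup G), y * a = a * y) : y ∈ (R : Subgroup G) := by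
  haveI := h.fact_r
  haveI : Fact (Nat.Prime 2) := ⟨Nat.prime_two⟩
  obtain ⟨⟨x, hxR⟩, hx1'⟩ := Subgroup.ne_bot_iff_exists_ne_one.1 hne
  have hx1 : x ≠ 1 := fun h' => hx1' (Subtype.ext h')
  have hyr : y ^ r = 1 := by
    rcases h.ord y with h' | h'
    · by_contra ht
      have ht2 : (y ^ r) ^ 2 = 1 := by rw [← pow_mul, mul_comm]; exact h'
      have hzp : IsPGroup 2 (Subgroup.zpowers (y ^ r)) :=
        IsPGroup.of_card (n := 1) (by rw [Nat.card_zpowers, orderOf_eq_prime ht2 ht, pow_one])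
      obtain ⟨S, hS⟩ := hzp.exists_le_sylow
      refine h.false_of_class ht S (fun s hs => h.sylow_two_comm S.2 (hS (Subgroup.mem_zpowers _)) hs) R
        fun a ha => ?_
      exact (Commute.pow_left (hy a ha : Commute y a) r).eq
    · rcases h.ord.eq_one_of_commute h.two h' (y := x)
        (by rw [mul_comm, pow_mul, h.pow_r R.2 hxR, one_pow]) (hy x hxR) with h1 | h1
      · rw [h1, one_pow]
      · exact absurd h1 hx1
  have hle : Subgroup.zpowers y ≤ Subgroup.normalizer ((R : Subgroup G) : Set G) := by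
    refine Subgroup.zpowers_le.2 (Subgroup.mem_normalizer_iff.2 fun a => ⟨fun ha => ?_, fun ha => ?_⟩)
    · rw [hy a ha, mul_inv_cancel_right]; exact ha
    · have := hy _ ha
      have h2 : y * a * y⁻¹ = a := by
        rw [mul_assoc (y * a), inv_mul_cancel, mul_one] at this
        exact mul_left_cancel this
      rwa [h2] at ha
  have hzp : IsPGroup r (Subgroup.zpowers y) := by
    rintro ⟨_, j, rfl⟩
    refine ⟨1, Subtype.ext ?_⟩
    show (y ^ j) ^ (r ^ 1) = 1
    rw [pow_one, ← zpow_natCast, ← zpow_mul, mul_comm, zpow_mul, zpow_natCast, hyr, one_zpow]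
  have := R.3 (hzp.to_sup_of_normal_right' R.2 hle) le_sup_right
  exact this.le (Subgroup.mem_sup_left (Subgroup.mem_zpowers y))

theorem sylow_r_ne_bot (R : Sylow r G) : (R : Subgroup G) ≠ ⊥ := by
  haveI := h.fact_r
  obtain ⟨g, hg⟩ := h.exists_two_r
  exact Sylow.ne_bot_of_dvd_card R ((hg ▸ dvd_mul_left r 2 : r ∣ orderOf g).trans (orderOf_dvd_natCard g))

theorem exists_not_mem_zpowers (R : Sylow r G) (x : G) :
    ∃ y ∈ (R : Subgroup G), y ∉ Subgroup.zpowers x ∨ x ∉ (R : Subgroup G) := by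
  haveI := h.fact_r
  by_contra hcon
  push Not at hcon
  have hxR : x ∈ (R : Subgroup G) := (hcon 1 (one_mem _)).2
  have hcard : Nat.card (R : Subgroup G) ∣ r := by
    refine (Subgroup.card_dvd_of_le (fun y hy => (hcon y hy).1 : (R : Subgroup G) ≤ Subgroup.zpowers x)).trans ?_
    rw [Nat.card_zpowers]
    exact orderOf_dvd_of_pow_eq_one (h.pow_r R.2 hxR)
  obtain ⟨g, hg⟩ := h.exists_two_r
  have hs : orderOf (g ^ 2) = r := by
    rw [orderOf_pow' g two_ne_zero, hg, Nat.gcd_eq_right (dvd_mul_right 2 r), Nat.mul_div_cancel_left r two_pos]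
  have ht : orderOf (g ^ r) = 2 := by
    rw [orderOf_pow' g h.two.hr.ne_zero, hg, Nat.gcd_eq_right (dvd_mul_left r 2), Nat.mul_div_cancel _ h.two.hr.pos]
  have hzp : IsPGroup r (Subgroup.zpowers (g ^ 2)) :=
    IsPGroup.of_card (n := 1) (by rw [Nat.card_zpowers, hs, pow_one])
  obtain ⟨R', hR'⟩ := hzp.exists_le_sylow
  have heq : Subgroup.zpowers (g ^ 2) = (R' : Subgroup G) := by
    refine Subgroup.eq_of_le_of_card_ge hR' (Nat.le_of_dvd (Nat.card_pos) ?_)
    rw [Nat.card_zpowers, hs, R'.card_eq_multiplicity, ← R.card_eq_multiplicity]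
    exact hcard
  have hmem : g ^ r ∈ (R' : Subgroup G) := by
    refine h.centralizer_eq R' (h.sylow_r_ne_bot R') fun a ha => ?_
    rw [← heq] at ha
    obtain ⟨j, rfl⟩ := ha
    exact ((Commute.pow_pow (Commute.refl g) r 2).zpow_right j).eq
  have := h.pow_r R'.2 hmem
  have hd := orderOf_dvd_of_pow_eq_one this
  rw [ht] at hd
  exact h.two.r2 ((Nat.prime_dvd_prime_iff_eq Nat.prime_two h.two.hr).1 hd).symm

/-- The automorphisms stabilising a Sylow `r`-subgroup are transitive on its nontrivial elements. -/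
theorem exists_aut_sylow_r (R : Sylow r G) {x x' : G} (hx : x ∈ (R : Subgroup G)) (hx1 : x ≠ 1)
    (hx' : x' ∈ (R : Subgroup G)) (hx'1 : x' ≠ 1) :
    ∃ β : MulAut G, β x = x' ∧ β • R = R := by
  haveI := h.fact_r
  obtain ⟨α, hα⟩ := h.trans x x' ((orderOf_eq_prime (h.pow_r R.2 hx) hx1).trans
    (orderOf_eq_prime (h.pow_r R.2 hx') hx'1).symm)
  set C := Subgroup.centralizer ({x'} : Set G) with hC
  have h1 : (R : Subgroup G) ≤ C := fun a ha => mem_centralizer_singleton.2 (h.sylow_r_comm R x' hx' a ha)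
  have h2 : ((α • R : Sylow r G) : Subgroup G) ≤ C := fun a ha => by
    have hxm : x' ∈ ((α • R : Sylow r G) : Subgroup G) := by
      rw [← hα]
      show α x ∈ α • (R : Subgroup G)
      exact Subgroup.smul_mem_pointwise_smul _ _ _ hx
    exact mem_centralizer_singleton.2 (h.sylow_r_comm _ x' hxm a ha)
  obtain ⟨c, hc⟩ := MulAction.exists_smul_eq C ((α • R : Sylow r G).subtype h2) (R.subtype h1)
  rw [Sylow.smul_subtype] at hc
  have hc' : (c : G) • (α • R) = R := Sylow.subtype_injective hc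
  refine ⟨MulAut.conj (c : G) * α, ?_, ?_⟩
  · rw [MulAut.mul_apply, hα, MulAut.conj_apply, ← mem_centralizer_singleton.1 c.2, mul_inv_cancel_right]
  · rw [mul_smul]
    exact hc'

end Hyp

end CfsgLib.FiveOrbits
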