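import Mathlib
import Cfsg.Agent.Lib.CIT.Main
import Cfsg.Agent.Lib.Linear.Card
import Cfsg.Agent.Lib.Char.Burnside
import Cfsg.Agent.S0252
import Cfsg.Agent.S0253
import Cfsg.Agent.S0254
import Cfsg.Agent.S2475

/-!
# The CIT groups with at most four orders of nontrivial elements
-/

set_option autoImplicit false
set_option linter.unusedSectionVars false
set_option linter.unusedSimpArgs false
set_option linter.style.haveILetI false

namespace CfsgLib.FiveOrbits

open scoped MatrixGroups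

variable {G : Type*} [Group G] [Finite G]

/-- An automorphism-orbit bound: among six elements two are related. -/
theorem exists_related (h5 : Nat.card (MulAction.orbitRel.Quotient (MulAut G) G) ≤ 5) (v : Fin 6 → G) :
    ∃ i j, i ≠ j ∧ ∃ α : MulAut G, α (v i) = v j := by
  by_contra hc
  push Not at hc
  have hinj : Function.Injective (fun i => (Quotient.mk'' (v i) : MulAction.orbitRel.Quotient (MulAut G) G)) := by
    intro i j hij
    by_contra hne
    obtain ⟨α, hα⟩ := Quotient.exact hij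
    exact hc j i (Ne.symm hne) α hα
  haveI : Finite (MulAction.orbitRel.Quotient (MulAut G) G) := Quotient.finite _
  have := Nat.card_le_card_of_injective _ hinj
  rw [Nat.card_fin] at this
  exact absurd (this.trans h5) (by norm_num)

/-- No five distinct element orders other than `1`. -/
theorem five_false (h5 : Nat.card (MulAction.orbitRel.Quotient (MulAut G) G) ≤ 5) (a b c d e : ℕ)
    (hnd : [1, a, b, c, d, e].Nodup) (ha : ∃ g : G, orderOf g = a) (hb : ∃ g : G, orderOf g = b)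
    (hc : ∃ g : G, orderOf g = c) (hd : ∃ g : G, orderOf g = d) (he : ∃ g : G, orderOf g = e) : False := by
  obtain ⟨ga, rfl⟩ := ha
  obtain ⟨gb, rfl⟩ := hb
  obtain ⟨gc, rfl⟩ := hc
  obtain ⟨gd, rfl⟩ := hd
  obtain ⟨ge, rfl⟩ := he
  obtain ⟨i, j, hij, α, hα⟩ := exists_related h5 ![1, ga, gb, gc, gd, ge]
  have := congrArg orderOf hα
  rw [α.orderOf_eq] at this
  clear hα
  simp only [List.nodup_cons, List.mem_cons, List.not_mem_nil, not_or, List.nodup_nil] at hnd
  fin_cases i <;> fin_cases j <;> simp_all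

variable [IsSimpleGroup G]

theorem not_solvable (hG : ¬ IsMulCommutative G) : ¬ Group.IsSolvable G := fun hs =>
  hG (IsMulCommutative.of_comm ((IsSimpleGroup.comm_iff_isSolvable).2 hs))

theorem exists_noncomm (hG : ¬ IsMulCommutative G) : ∃ a b : G, a * b ≠ b * a := by
  by_contra hc
  push Not at hc
  exact hG (IsMulCommutative.of_comm hc)

theorem three_primes (hG : ¬ IsMulCommutative G) {p q : ℕ} (hp : p.Prime) (hq : q.Prime) :
    ∃ s : ℕ, s.Prime ∧ s ∣ Nat.card G ∧ s ≠ p ∧ s ≠ q := by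
  by_contra hc
  push Not at hc
  exact not_solvable hG (CfsgLib.Char.isSolvable_of_two_primes p q hp hq _ G rfl fun s hs hd => by
    by_cases h : s = p
    · exact Or.inl h
    · exact Or.inr (hc s hs hd h))

/-- Suzuki orders are excluded. -/
theorem false_of_suzuki (hG : ¬ IsMulCommutative G)
    (h5 : Nat.card (MulAction.orbitRel.Quotient (MulAut G) G) ≤ 5)
    (hcit : ∀ t : G, orderOf t = 2 → IsPGroup 2 (Subgroup.centralizer ({t} : Set G)))
    (hS : Cfsg.IsSuzuki G) : False := by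
  haveI : Fact (Nat.Prime 2) := ⟨Nat.prime_two⟩
  obtain ⟨-, m, hm, hcard⟩ := hS
  set Q := 2 ^ (2 * m + 1) with hQ
  set r := 2 ^ m with hr
  have hQr : Q = 2 * r ^ 2 := by rw [hQ, hr, ← pow_mul, pow_succ']; ring_nf
  have hr2 : 2 ≤ r := by
    rw [hr]
    calc 2 = 2 ^ 1 := rfl
      _ ≤ _ := Nat.pow_le_pow_right two_pos hm
  set a := 2 * r ^ 2 + 2 * r + 1 with ha
  obtain ⟨s, hs⟩ : ∃ s, r = s + 1 := ⟨r - 1, by omega⟩
  set b := 2 * r * s + 1 with hb
  have hab : Q ^ 2 + 1 = a * b := by rw [hQr, ha, hb, hs]; ring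
  have hQ8 : 8 ≤ Q := by rw [hQr]; nlinarith
  have hodd_b : Nat.Coprime 2 b := Nat.coprime_two_left.2 ⟨r * s, by rw [hb]; ring⟩
  have hodd_a : Nat.Coprime 2 a := Nat.coprime_two_left.2 ⟨r ^ 2 + r, by rw [ha]; ring⟩
  have hodd_c : Nat.Coprime 2 (Q - 1) := Nat.coprime_two_left.2 ⟨r ^ 2 - 1, by
    have : 1 ≤ r ^ 2 := Nat.one_le_pow _ _ (by omega)
    omega⟩
  have hcab : Nat.Coprime a b := by
    refine Nat.coprime_of_dvd fun k hk hka hkb => ?_
    have h4 : k ∣ 4 * r := by
      have : a = b + 4 * r := by rw [ha, hb, hs]; ring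
      exact (Nat.dvd_add_right hkb).1 (this ▸ hka)
    have hk2 : k ≠ 2 := by
      rintro rfl
      exact absurd (Nat.le_of_dvd one_pos (hodd_b.gcd_eq_one ▸ Nat.dvd_gcd (dvd_refl 2) hkb)) (by norm_num)
    have hkr : k ∣ 2 ^ (m + 2) := by
      have : 4 * r = 2 ^ (m + 2) := by rw [hr, pow_add]; ring
      rwa [← this]
    exact hk2 ((Nat.prime_dvd_prime_iff_eq hk Nat.prime_two).1 (hk.dvd_of_dvd_pow hkr))
  have hcQ : Nat.Coprime (Q - 1) (Q ^ 2 + 1) := by
    refine Nat.coprime_of_dvd fun k hk hk1 hk2 => ?_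
    have hk2' : k ∣ 2 := by
      have : Q ^ 2 + 1 = (Q - 1) * (Q + 1) + 2 := by
        obtain ⟨w, hw⟩ : ∃ w, Q = w + 1 := ⟨Q - 1, by omega⟩
        rw [hw, Nat.add_sub_cancel]; ring
      rw [this] at hk2
      exact (Nat.dvd_add_right (hk1.mul_right _)).1 hk2
    have := (Nat.prime_dvd_prime_iff_eq hk Nat.prime_two).1 hk2'
    subst this
    exact absurd (Nat.le_of_dvd one_pos (hodd_c.gcd_eq_one ▸ Nat.dvd_gcd (dvd_refl 2) hk1)) (by norm_num)
  have hb1 : 1 < b := by rw [hb]; nlinarith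
  have ha1 : 1 < a := by rw [ha]; nlinarith
  set pa := a.minFac with hpa
  set pb := b.minFac with hpb
  set pc := (Q - 1).minFac with hpc
  have hpap : pa.Prime := Nat.minFac_prime ha1.ne'
  have hpbp : pb.Prime := Nat.minFac_prime hb1.ne'
  have hpcp : pc.Prime := Nat.minFac_prime (by omega)
  have hne : ∀ {u v x y : ℕ}, u.Prime → Nat.Coprime x y → u ∣ x → v ∣ y → u ≠ v := by
    intro u v x y hu hxy h1 h2 he
    subst he
    exact hu.ne_one (Nat.eq_one_of_dvd_coprimes hxy h1 h2)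
  have hab' := hne hpap hcab a.minFac_dvd b.minFac_dvd
  have hca := hne hpcp hcQ (Nat.minFac_dvd _) (a.minFac_dvd.trans (hab ▸ dvd_mul_right a b))
  have hcb := hne hpcp hcQ (Nat.minFac_dvd _) (b.minFac_dvd.trans (hab ▸ dvd_mul_left b a))
  have h2a := hne Nat.prime_two hodd_a (dvd_refl 2) a.minFac_dvd
  have h2b := hne Nat.prime_two hodd_b (dvd_refl 2) b.minFac_dvd
  have h2c := hne Nat.prime_two hodd_c (dvd_refl 2) (Q - 1).minFac_dvd
  have hord : ∀ {p : ℕ}, p.Prime → p ∣ Nat.card G → ∃ g : G, orderOf g = p := fun hp hd => by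
    haveI := Fact.mk hp
    exact exists_prime_orderOf_dvd_card' _ hd
  have e2 : ∃ g : G, orderOf g = 2 :=
    hord Nat.prime_two (hcard ▸ dvd_mul_of_dvd_left (dvd_mul_of_dvd_left
      (dvd_pow (hQ ▸ dvd_pow_self 2 (Nat.succ_ne_zero _)) two_ne_zero) _) _)
  have ea : ∃ g : G, orderOf g = pa :=
    hord hpap (hcard ▸ dvd_mul_of_dvd_left (dvd_mul_of_dvd_right
      (a.minFac_dvd.trans (hab ▸ dvd_mul_right a b)) _) _)
  have eb : ∃ g : G, orderOf g = pb :=
    hord hpbp (hcard ▸ dvd_mul_of_dvd_left (dvd_mul_of_dvd_right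
      (b.minFac_dvd.trans (hab ▸ dvd_mul_left b a)) _) _)
  have ec : ∃ g : G, orderOf g = pc := hord hpcp (hcard ▸ dvd_mul_of_dvd_right (Nat.minFac_dvd _) _)
  have h4 : ∀ g : G, g ^ 4 = 1 → g ^ 2 = 1 := by
    intro g hg
    by_contra hg2
    have h' : orderOf g = 4 :=
      orderOf_eq_prime_pow (p := 2) (n := 1) (by simpa using hg2) (by simpa using hg)
    have hp4 : ∀ {p : ℕ}, p.Prime → p ≠ 4 := by
      rintro p hp rfl
      norm_num at hp
    exact five_false h5 2 4 pa pb pc (by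
      simp only [List.nodup_cons, List.mem_cons, List.not_mem_nil, not_or, List.nodup_nil]
      refine ⟨?_, ?_, ?_, ?_, ?_, ?_, trivial⟩
      · exact ⟨by norm_num, by norm_num, hpap.ne_one.symm, hpbp.ne_one.symm, hpcp.ne_one.symm, id⟩
      · exact ⟨by norm_num, h2a, h2b, h2c, id⟩
      · exact ⟨(hp4 hpap).symm, (hp4 hpbp).symm, (hp4 hpcp).symm, id⟩
      · exact ⟨hab', hca.symm, id⟩
      · exact ⟨hcb.symm, id⟩
      · exact id) e2 ⟨g, h'⟩ ea eb ec
  have hsq : ∀ {t : G}, orderOf t = 2 → ∀ c ∈ Subgroup.centralizer ({t} : Set G), c ^ 2 = 1 := by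
    intro t ht c hc
    obtain ⟨k, hk⟩ := hcit t ht ⟨c, hc⟩
    have hk' : c ^ 2 ^ k = 1 := congrArg Subtype.val hk
    clear hk hc
    induction k generalizing c with
    | zero => rw [pow_zero, pow_one] at hk'; rw [hk', one_pow]
    | succ k ih =>
      have h1 := ih (c ^ 2) (by rwa [← pow_mul, ← pow_succ'])
      exact h4 c (by rw [← pow_mul] at h1; exact h1)
  have hcomm : ∀ {t : G}, orderOf t = 2 → ∀ c ∈ Subgroup.centralizer ({t} : Set G),
      ∀ d ∈ Subgroup.centralizer ({t} : Set G), c * d = d * c := by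
    intro t ht c hc d hd
    have h1 : ∀ e ∈ Subgroup.centralizer ({t} : Set G), e⁻¹ = e := fun e he =>
      inv_eq_of_mul_eq_one_right (by rw [← sq]; exact hsq ht e he)
    calc c * d = (c * d)⁻¹ := (h1 _ (mul_mem hc hd)).symm
      _ = d * c := by rw [_root_.mul_inv_rev, h1 c hc, h1 d hd]
  obtain ⟨S⟩ : Nonempty (Sylow 2 G) := inferInstance
  have hS2 : ∃ t ∈ (S : Subgroup G), orderOf t = 2 := by
    obtain ⟨g, hg⟩ := e2
    have hd : 2 ∣ Nat.card (S : Subgroup G) := S.dvd_card_of_dvd_card (hg ▸ orderOf_dvd_natCard g)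
    obtain ⟨t, ht⟩ := exists_prime_orderOf_dvd_card' 2 hd
    exact ⟨t, t.2, (Subgroup.orderOf_coe t).trans ht⟩
  obtain ⟨t, htS, ht⟩ := hS2
  -- the centraliser of an involution of S is S
  have hCS : ∀ u ∈ (S : Subgroup G), orderOf u = 2 →
      Subgroup.centralizer ({u} : Set G) = (S : Subgroup G) := by
    have hab2 : ∀ c ∈ (S : Subgroup G), c ^ 2 = 1 := by
      intro c hc
      obtain ⟨k, hk⟩ := S.2 ⟨c, hc⟩
      have hk' : c ^ 2 ^ k = 1 := congrArg Subtype.val hk
      clear hk hc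
      induction k generalizing c with
      | zero => rw [pow_zero, pow_one] at hk'; rw [hk', one_pow]
      | succ k ih =>
        have h1 := ih (c ^ 2) (by rwa [← pow_mul, ← pow_succ'])
        exact h4 c (by rw [← pow_mul] at h1; exact h1)
    intro u hu hu2
    refine S.3 (hcit u hu2) fun c hc => Subgroup.mem_centralizer_singleton_iff.2 ?_
    have h1 : ∀ e ∈ (S : Subgroup G), e⁻¹ = e := fun e he =>
      inv_eq_of_mul_eq_one_right (by rw [← sq]; exact hab2 e he)
    calc c * u = (c * u)⁻¹ := (h1 _ (mul_mem hc hu)).symm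
      _ = u * c := by rw [_root_.mul_inv_rev, h1 c hc, h1 u hu]
  -- nonconjugate involutions commute
  have hnc : ∀ u v : G, orderOf u = 2 → orderOf v = 2 → (∀ g : G, g * u * g⁻¹ ≠ v) → u * v = v * u := by
    intro u v hu hv hne'
    have hu1 : u⁻¹ = u := inv_eq_of_mul_eq_one_right (by rw [← sq, ← hu, pow_orderOf_eq_one])
    have hv1 : v⁻¹ = v := inv_eq_of_mul_eq_one_right (by rw [← sq, ← hv, pow_orderOf_eq_one])
    set w := u * v with hw
    rcases Nat.even_or_odd (orderOf w) with he | ⟨k, hk⟩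
    · obtain ⟨k, hk⟩ := he
      set z := w ^ k with hz
      have hk0 : 0 < k := by
        have := orderOf_pos w
        omega
      have hz2 : orderOf z = 2 := by
        rw [hz, orderOf_pow' w hk0.ne', hk, ← two_mul, Nat.gcd_eq_right (dvd_mul_left k 2),
          Nat.mul_div_cancel _ hk0]
      have hzinv : z⁻¹ = z := inv_eq_of_mul_eq_one_right (by rw [← sq, ← hz2, pow_orderOf_eq_one])
      have hinv : u * w * u⁻¹ = w⁻¹ := by
        rw [hw, _root_.mul_inv_rev, hv1, hu1]
        rw [← mul_assoc, ← sq, ← hu, pow_orderOf_eq_one, one_mul]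
      have huz : u * z * u⁻¹ = z := by rw [hz, ← conj_pow, hinv, inv_pow, ← hz, hzinv]
      have huC : u ∈ Subgroup.centralizer ({z} : Set G) :=
        Subgroup.mem_centralizer_singleton_iff.2 (mul_inv_eq_iff_eq_mul.1 huz)
      have hwC : w ∈ Subgroup.centralizer ({z} : Set G) :=
        Subgroup.mem_centralizer_singleton_iff.2 (Commute.self_pow w k).eq
      have hvC : v ∈ Subgroup.centralizer ({z} : Set G) := by
        rw [show v = u⁻¹ * w by rw [hw, inv_mul_cancel_left]]
        exact mul_mem (inv_mem huC) hwC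
      exact hcomm hz2 u huC v hvC
    · exfalso
      refine hne' (w ^ k) ?_
      have hinv : u * w * u⁻¹ = w⁻¹ := by
        rw [hw, _root_.mul_inv_rev, hv1, hu1]
        rw [← mul_assoc, ← sq, ← hu, pow_orderOf_eq_one, one_mul]
      have h1 : u * (w ^ k)⁻¹ * u⁻¹ = w ^ k := by
        rw [← conj_inv, ← conj_pow, hinv, inv_pow, inv_inv]
      have h2 : w ^ k * w ^ k = w⁻¹ := by
        refine eq_inv_of_mul_eq_one_left ?_
        rw [← pow_add, ← pow_succ, ← two_mul, ← hk, pow_orderOf_eq_one]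
      have h3 : u * u = 1 := by rw [← sq, ← hu, pow_orderOf_eq_one]
      calc w ^ k * u * (w ^ k)⁻¹ = w ^ k * (u * (w ^ k)⁻¹ * u⁻¹) * u := by group
        _ = w⁻¹ * u := by rw [h1, h2]
        _ = v := by rw [hw, _root_.mul_inv_rev, hv1, hu1, mul_assoc, h3, mul_one]
  -- one class of involutions
  have hconj : ∀ u v : G, orderOf u = 2 → orderOf v = 2 → ∃ g : G, g * u * g⁻¹ = v := by
    intro u v hu hv
    by_contra hcon
    push Not at hcon
    set S' : Subgroup G := Subgroup.centralizer ({u} : Set G) with hS'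
    have hall : ∀ w : G, orderOf w = 2 → w ∈ S' := by
      intro w hw
      by_cases hwu : ∀ g : G, g * u * g⁻¹ ≠ w
      · exact Subgroup.mem_centralizer_singleton_iff.2 (hnc u w hu hw hwu).symm
      · push Not at hwu
        obtain ⟨g, rfl⟩ := hwu
        have hncv : ∀ e : G, e * (g * u * g⁻¹) * e⁻¹ ≠ v := fun e he =>
          hcon (e * g) (by rw [← he]; group)
        have h1 := hnc _ v hw hv hncv
        have h2 := hnc u v hu hv hcon
        refine Subgroup.mem_centralizer_singleton_iff.2 (hcomm hv _ ?_ u ?_)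
        · exact Subgroup.mem_centralizer_singleton_iff.2 h1
        · exact Subgroup.mem_centralizer_singleton_iff.2 h2
    have hnorm : S'.Normal := by
      refine ⟨fun c hc g => ?_⟩
      by_cases hc1 : c = 1
      · simp [hc1]
      · refine hall _ ?_
        rw [show g * c * g⁻¹ = MulAut.conj g c from rfl, MulEquiv.orderOf_eq]
        exact orderOf_eq_prime (hsq hu c hc) hc1
    rcases hnorm.eq_bot_or_eq_top with h | h
    · have : u ∈ (⊥ : Subgroup G) := h ▸ Subgroup.mem_centralizer_singleton_iff.2 rfl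
      rw [Subgroup.mem_bot] at this
      rw [this, orderOf_one] at hu
      omega
    · exact hG (IsMulCommutative.of_comm fun c d =>
        hcomm hu c (show c ∈ S' from h ▸ Subgroup.mem_top c) d (show d ∈ S' from h ▸ Subgroup.mem_top d))
  -- transitivity of the normalizer
  set N := Subgroup.normalizer ((S : Subgroup G) : Set G) with hN
  letI : MulAction N G := MulAction.compHom G ((MulAut.conj (G := G)).comp N.subtype)
  have hsmul : ∀ (n : N) (x : G), n • x = (n : G) * x * (n : G)⁻¹ := fun _ _ => rfl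
  have hSsq : ∀ v ∈ (S : Subgroup G), v ^ 2 = 1 := fun v hv =>
    hsq ht v ((hCS t htS ht).symm ▸ hv)
  have horb : MulAction.orbit N t = ((S : Subgroup G) : Set G) \ {1} := by
    ext v
    constructor
    · rintro ⟨n, rfl⟩
      refine ⟨(Subgroup.mem_normalizer_iff.1 n.2 t).1 htS, fun h => ?_⟩
      rw [Set.mem_singleton_iff] at h
      have : t = 1 := conj_eq_one_iff.1 ((hsmul n t).symm.trans h)
      rw [this, orderOf_one] at ht
      omega
    · rintro ⟨hv, hv1⟩
      have hv2 : orderOf v = 2 := orderOf_eq_prime (hSsq v hv) (by simpa using hv1)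
      obtain ⟨g, hg⟩ := hconj t v ht hv2
      have hgN : g ∈ N := by
        rw [hN, Subgroup.mem_normalizer_iff]
        intro c
        rw [← hCS t htS ht, Subgroup.mem_centralizer_singleton_iff]
        conv_rhs => rw [hCS t htS ht, ← hCS v hv hv2, Subgroup.mem_centralizer_singleton_iff, ← hg]
        constructor
        · intro h
          calc g * c * g⁻¹ * (g * t * g⁻¹) = g * (c * t) * g⁻¹ := by group
            _ = _ := by rw [h]; group
        · intro h
          calc c * t = g⁻¹ * (g * c * g⁻¹ * (g * t * g⁻¹)) * g := by group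
            _ = _ := by rw [h]; group
      exact ⟨⟨g, hgN⟩, hg⟩
  have hdvd : Nat.card (S : Subgroup G) - 1 ∣ Nat.card G := by
    have h1 := MulAction.index_stabilizer N t
    rw [horb, Set.ncard_sdiff_singleton_of_mem (show (1 : G) ∈ ((S : Subgroup G) : Set G) from one_mem _),
      ← Nat.card_coe_set_eq] at h1
    exact (h1 ▸ Subgroup.index_dvd_card _ : _ ∣ Nat.card N).trans N.card_subgroup_dvd_card
  have hScard : Nat.card (S : Subgroup G) = Q ^ 2 := by
    rw [S.card_eq_multiplicity, hcard]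
    have h0 : ((Q ^ 2 + 1) * (Q - 1)).factorization 2 = 0 := by
      refine Nat.factorization_eq_zero_of_not_dvd fun h => ?_
      rw [hab] at h
      have := Nat.eq_one_of_dvd_coprimes ((hodd_a.mul_right hodd_b).mul_right hodd_c) (dvd_refl 2) h
      omega
    have hne0 : (Q ^ 2 + 1) * (Q - 1) ≠ 0 := Nat.mul_ne_zero (by omega) (by omega)
    rw [mul_assoc (Q ^ 2), Nat.factorization_mul (by positivity) hne0, Finsupp.add_apply, h0, add_zero,
      hQ, ← pow_mul, Nat.Prime.factorization_pow Nat.prime_two, Finsupp.single_eq_same]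
  rw [hScard, hcard] at hdvd
  obtain ⟨w, hw⟩ : ∃ w, Q = w + 1 := ⟨Q - 1, by omega⟩
  have hQ2 : Q ^ 2 - 1 = w * (Q + 1) := by
    rw [hw]
    have : (w + 1) ^ 2 = w * (w + 1 + 1) + 1 := by ring
    omega
  rw [hQ2, show Q - 1 = w by omega, mul_comm w (Q + 1)] at hdvd
  have hd2 : Q + 1 ∣ Q ^ 2 * (Q ^ 2 + 1) := Nat.dvd_of_mul_dvd_mul_right (by omega) hdvd
  have hcop : Nat.Coprime (Q + 1) (Q ^ 2) := (Nat.coprime_self_add_left.2 (Nat.coprime_one_left Q)).pow_right 2
  have hd3 := hcop.dvd_of_dvd_mul_left hd2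
  have hd4 : Q + 1 ∣ 2 := by
    have h1 : Q + 1 ∣ Q ^ 2 + 1 + w * (Q + 1) - w * (Q + 1) := by rw [Nat.add_sub_cancel]; exact hd3
    have h2 : Q ^ 2 + 1 = w * (Q + 1) + 2 := by rw [hw]; ring
    rw [h2] at hd3
    exact (Nat.dvd_add_right (dvd_mul_left _ _)).1 hd3
  have := Nat.le_of_dvd two_pos hd4
  omega

/-- Element orders of `PSL₂(F)` in `G`. -/
theorem exists_order_psl {F : Type} [Field F] [Fintype F] {p : ℕ} [Fact p.Prime] [CharP F p]
    (φ : G ≃* Matrix.ProjectiveSpecialLinearGroup (Fin 2) F) (h4 : 4 ≤ Fintype.card F) {m : ℕ}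
    (hm : m ∣ p ∨ m ∣ (Fintype.card F - 1) / Nat.gcd 2 (Fintype.card F - 1) ∨
      m ∣ (Fintype.card F + 1) / Nat.gcd 2 (Fintype.card F - 1)) : ∃ g : G, orderOf g = m := by
  obtain ⟨x, hx⟩ : m ∈ Set.range (orderOf : Matrix.ProjectiveSpecialLinearGroup (Fin 2) F → ℕ) := by
    rw [Cfsg.Agent.S2475.result p h4]; exact hm
  exact ⟨φ.symm x, by rw [φ.symm.orderOf_eq, hx]⟩

/-- `PSL₂(2ⁿ)`, `n ≥ 4`, has five orders. -/
theorem false_of_even {F : Type} [Field F] [Fintype F]
    (h5 : Nat.card (MulAction.orbitRel.Quotient (MulAut G) G) ≤ 5)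
    (φ : G ≃* Matrix.ProjectiveSpecialLinearGroup (Fin 2) F) {n : ℕ} (hn : 4 ≤ n)
    (hF : Fintype.card F = 2 ^ n) : False := by
  obtain ⟨p, hp⟩ := CharP.exists F
  haveI : Fact p.Prime := ⟨CharP.char_is_prime F p⟩
  have hp2 : p = 2 := by
    obtain ⟨k, hpp, hk⟩ := FiniteField.card F p
    rw [hF] at hk
    exact ((Nat.prime_dvd_prime_iff_eq hpp Nat.prime_two).1
      (hpp.dvd_of_dvd_pow (hk ▸ dvd_pow_self p k.ne_zero))).symm.symm
  set Q := Fintype.card F with hQ
  have hQ16 : 16 ≤ Q := by rw [hF]; exact le_trans (by norm_num) (Nat.pow_le_pow_right two_pos hn)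
  have hQe : 2 ∣ Q := hF ▸ dvd_pow_self 2 (by omega)
  have hg : Nat.gcd 2 (Q - 1) = 1 := by
    refine Nat.coprime_two_left.2 ?_
    rw [Nat.odd_iff]; omega
  have mem : ∀ {m : ℕ}, (m = 2 ∨ m ∣ Q - 1 ∨ m ∣ Q + 1) → ∃ g : G, orderOf g = m := fun {m} h =>
    exists_order_psl (p := p) φ (by omega) (by
      rw [← hQ, hg, Nat.div_one, Nat.div_one]
      rcases h with h | h | h
      · exact Or.inl (h.trans hp2.symm ▸ dvd_rfl)
      · exact Or.inr (Or.inl h)
      · exact Or.inr (Or.inr h))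
  have h3 : ¬ 3 ∣ Q := fun h => by
    rw [hF] at h
    have := (Nat.prime_dvd_prime_iff_eq Nat.prime_three Nat.prime_two).1 (Nat.prime_three.dvd_of_dvd_pow h)
    omega
  rcases (show Q % 3 = 1 ∨ Q % 3 = 2 by omega) with h | h
  · obtain ⟨k, hk⟩ : 3 ∣ Q - 1 := ⟨Q / 3, by omega⟩
    refine five_false h5 2 3 k (Q - 1) (Q + 1) ?_ (mem (Or.inl rfl)) (mem (Or.inr (Or.inl ⟨k, hk⟩)))
      (mem (Or.inr (Or.inl ⟨3, by omega⟩))) (mem (Or.inr (Or.inl dvd_rfl))) (mem (Or.inr (Or.inr dvd_rfl)))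
    simp only [List.nodup_cons, List.mem_cons, List.not_mem_nil, not_or, List.nodup_nil, not_false_eq_true, and_true]
    omega
  · obtain ⟨k, hk⟩ : 3 ∣ Q + 1 := ⟨Q / 3 + 1, by omega⟩
    refine five_false h5 2 3 k (Q - 1) (Q + 1) ?_ (mem (Or.inl rfl)) (mem (Or.inr (Or.inr ⟨k, hk⟩)))
      (mem (Or.inr (Or.inr ⟨3, by omega⟩))) (mem (Or.inr (Or.inl dvd_rfl))) (mem (Or.inr (Or.inr dvd_rfl)))
    simp only [List.nodup_cons, List.mem_cons, List.not_mem_nil, not_or, List.nodup_nil, not_false_eq_true, and_true]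
    omega

/-- `PSL₂(p)`, `p = 2ᵏ ± 1 ≥ 11`, has five orders. -/
theorem false_of_prime {F : Type} [Field F] [Fintype F]
    (h5 : Nat.card (MulAction.orbitRel.Quotient (MulAut G) G) ≤ 5)
    (φ : G ≃* Matrix.ProjectiveSpecialLinearGroup (Fin 2) F) {k : ℕ} (hp : (Fintype.card F).Prime)
    (h11 : 11 ≤ Fintype.card F)
    (hk : Fintype.card F = 2 ^ k + 1 ∨ Fintype.card F + 1 = 2 ^ k) : False := by
  set Q := Fintype.card F with hQ
  haveI : Fact Q.Prime := ⟨hp⟩
  haveI : CharP F Q := by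
    obtain ⟨p, hc⟩ := CharP.exists F
    obtain ⟨n, hpp, hn⟩ := FiniteField.card F p
    rw [← hQ] at hn
    have := (Nat.prime_dvd_prime_iff_eq hpp hp).1 (hn ▸ dvd_pow_self p n.ne_zero)
    exact this ▸ hc
  have hk4 : 4 ≤ k := by
    by_contra hk4
    have : 2 ^ k ≤ 2 ^ 3 := Nat.pow_le_pow_right two_pos (by omega)
    norm_num at this
    omega
  obtain ⟨j, rfl⟩ : ∃ j, k = j + 4 := ⟨k - 4, by omega⟩
  obtain ⟨e, he, he0⟩ : ∃ e, 2 ^ (j + 4) = 16 * e ∧ 0 < e :=
    ⟨2 ^ j, by rw [pow_add]; ring, Nat.two_pow_pos j⟩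
  rw [he] at hk
  have hg : Nat.gcd 2 (Q - 1) = 2 := Nat.gcd_eq_left (by omega)
  have mem : ∀ {m : ℕ}, (m = Q ∨ m ∣ (Q - 1) / 2 ∨ m ∣ (Q + 1) / 2) → ∃ g : G, orderOf g = m :=
    fun {m} h => exists_order_psl (p := Q) φ (by omega) (by
      rw [← hQ, hg]
      rcases h with h | h | h
      · exact Or.inl (h ▸ dvd_rfl)
      · exact Or.inr (Or.inl h)
      · exact Or.inr (Or.inr h))
  rcases hk with hk | hk
  · refine five_false h5 2 4 8 Q (8 * e + 1) ?_ (mem (Or.inr (Or.inl ⟨4 * e, by omega⟩)))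
      (mem (Or.inr (Or.inl ⟨2 * e, by omega⟩))) (mem (Or.inr (Or.inl ⟨e, by omega⟩)))
      (mem (Or.inl rfl)) (mem (Or.inr (Or.inr ⟨1, by omega⟩)))
    simp only [List.nodup_cons, List.mem_cons, List.not_mem_nil, not_or, List.nodup_nil, not_false_eq_true, and_true]
    omega
  · refine five_false h5 2 4 8 Q (8 * e - 1) ?_ (mem (Or.inr (Or.inr ⟨4 * e, by omega⟩)))
      (mem (Or.inr (Or.inr ⟨2 * e, by omega⟩))) (mem (Or.inr (Or.inr ⟨e, by omega⟩)))
      (mem (Or.inl rfl)) (mem (Or.inr (Or.inl ⟨1, by omega⟩)))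
    simp only [List.nodup_cons, List.mem_cons, List.not_mem_nil, not_or, List.nodup_nil, not_false_eq_true, and_true]
    omega

/-- `PSL₃(4)` has five orders. -/
theorem false_of_three_four {F : Type} [Field F] [Fintype F]
    (h5 : Nat.card (MulAction.orbitRel.Quotient (MulAut G) G) ≤ 5) (hF : Fintype.card F = 4)
    (φ : G ≃* Matrix.ProjectiveSpecialLinearGroup (Fin 3) F) : False := by
  have hcard : Nat.card G = 20160 := by
    rw [Nat.card_congr φ.toEquiv]
    have h1 := CfsgLib.Linear.card_SL_mul (F := F) 3 (by norm_num)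
    have h2 := CfsgLib.Linear.card_PSL_mul (F := F) (n := Fin 3)
    simp only [hF, Fintype.card_fin, Fin.prod_univ_three] at h1 h2
    rw [show Nat.gcd 3 (4 - 1) = 3 by norm_num] at h2
    norm_num at h1
    omega
  have hord : ∀ {p : ℕ}, p.Prime → p ∣ 20160 → ∃ g : G, orderOf g = p := fun {p} hp hd => by
    haveI := Fact.mk hp
    exact exists_prime_orderOf_dvd_card' _ (hcard ▸ hd)
  have h2 : (2 : F) = 0 := by
    have h4 : ((4 : ℕ) : F) = 0 := by rw [← hF]; exact FiniteField.cast_card_eq_zero F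
    have : (2 : F) * 2 = 0 := by rw [show (2 : F) * 2 = ((4 : ℕ) : F) by norm_num, h4]
    exact (mul_eq_zero.1 this).elim id id
  let A : Matrix (Fin 3) (Fin 3) F := !![1, 1, 0; 0, 1, 1; 0, 0, 1]
  let a : Matrix.SpecialLinearGroup (Fin 3) F := ⟨A, by simp [A, Matrix.det_fin_three]⟩
  have hA2 : A * A = !![1, 0, 1; 0, 1, 0; 0, 0, 1] := by
    ext i j
    fin_cases i <;> fin_cases j <;> simp [A, Matrix.mul_apply, Fin.sum_univ_three] <;>
      exact (show (1 : F) + 1 = 0 by rw [← h2]; norm_num)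
  have ha4 : a ^ 4 = 1 := by
    apply Subtype.ext
    show A ^ 4 = 1
    rw [show (4 : ℕ) = 2 * 2 from rfl, pow_mul, sq A, hA2, sq]
    ext i j
    fin_cases i <;> fin_cases j <;> simp [Matrix.mul_apply, Fin.sum_univ_three] <;>
      exact (show (1 : F) + 1 = 0 by rw [← h2]; norm_num)
  have ha2 : a ^ 2 ∉ Subgroup.center (Matrix.SpecialLinearGroup (Fin 3) F) := by
    intro h
    obtain ⟨c, -, hc⟩ := Matrix.SpecialLinearGroup.mem_center_iff.1 h
    have h02 : (A ^ 2) 0 2 = (0 : F) := by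
      have h' := congrFun (congrFun hc 0) 2
      simp at h'
      first | exact h' | exact h'.symm
    rw [sq, hA2] at h02
    simp at h02
  have h4 : ∃ g : G, orderOf g = 4 := by
    refine ⟨φ.symm (QuotientGroup.mk a), ?_⟩
    rw [φ.symm.orderOf_eq]
    refine orderOf_eq_prime_pow (p := 2) (n := 1) ?_ ?_
    · rw [pow_one, ← QuotientGroup.mk_pow]
      exact fun h => ha2 ((QuotientGroup.eq_one_iff _).1 h)
    · show (QuotientGroup.mk a : Matrix.ProjectiveSpecialLinearGroup (Fin 3) F) ^ 4 = 1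
      rw [← QuotientGroup.mk_pow, ha4]
      rfl
  exact five_false h5 2 3 4 5 7 (by decide) (hord Nat.prime_two (by norm_num))
    (hord Nat.prime_three (by norm_num)) h4 (hord (by norm_num) (by norm_num))
    (hord (by norm_num) (by norm_num))

theorem card_psl_two_small {F : Type} [Field F] [Fintype F] (hF : Fintype.card F = 2 ∨ Fintype.card F = 3)
    (φ : G ≃* Matrix.ProjectiveSpecialLinearGroup (Fin 2) F) (hG : ¬ IsMulCommutative G) : False := by
  have h1 := CfsgLib.Linear.card_PSL_mul (F := F) (n := Fin 2)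
  rw [CfsgLib.Linear.card_SL_two, Fintype.card_fin] at h1
  have hc := Nat.card_congr φ.toEquiv
  rcases hF with hF | hF <;> rw [hF] at h1 <;> norm_num at h1
  · refine not_solvable hG (CfsgLib.Char.isSolvable_of_card_eq_prime_pow_mul (a := 1) (b := 1)
      Nat.prime_two Nat.prime_three ?_)
    rw [hc, h1]; norm_num
  · refine not_solvable hG (CfsgLib.Char.isSolvable_of_card_eq_prime_pow_mul (a := 2) (b := 1)
      Nat.prime_two Nat.prime_three ?_)
    rw [hc]
    omega

end CfsgLib.FiveOrbits
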