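import Cfsg.Agent.Lib.FiveOrbits.Two
import Cfsg.Agent.Lib.FiveOrbits.Cases

/-!
# Simple groups with at most five orbits of the automorphism group

The CIT classification is a hypothesis here.
-/

set_option autoImplicit false
set_option linter.style.haveILetI false
set_option linter.unusedSectionVars false

namespace CfsgLib.FiveOrbits

/-- The conclusion of the classification of simple CIT groups. -/
def CITList (G : Type*) [Group G] : Prop :=
  (∃ (F : Type) (_ : Field F) (_ : Fintype F),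
      (Fintype.card F = 9 ∨ (∃ n : ℕ, Fintype.card F = 2 ^ n) ∨
        ((Fintype.card F).Prime ∧ ∃ k : ℕ, Fintype.card F = 2 ^ k + 1 ∨ Fintype.card F + 1 = 2 ^ k)) ∧
      Nonempty (G ≃* Matrix.ProjectiveSpecialLinearGroup (Fin 2) F)) ∨
  (∃ (F : Type) (_ : Field F) (_ : Fintype F), Fintype.card F = 4 ∧
      Nonempty (G ≃* Matrix.ProjectiveSpecialLinearGroup (Fin 3) F)) ∨
  Cfsg.IsSuzuki G

variable {G : Type*} [Group G] [Finite G] [IsSimpleGroup G]

theorem cit_of_orders (hno : ∀ g : G, ∀ p : ℕ, p.Prime → p ≠ 2 → orderOf g ≠ 2 * p)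
    (t : G) (ht : orderOf t = 2) : IsPGroup 2 (Subgroup.centralizer ({t} : Set G)) := by
  haveI : Fact (Nat.Prime 2) := ⟨Nat.prime_two⟩
  by_contra hc
  obtain ⟨p, hp, hpd, hp2⟩ : ∃ p, p.Prime ∧ p ∣ Nat.card (Subgroup.centralizer ({t} : Set G)) ∧ p ≠ 2 := by
    by_contra hall
    push Not at hall
    exact hc (IsPGroup.of_card (Nat.eq_prime_pow_of_unique_prime_dvd Nat.card_pos.ne'
      fun {d} hd hdd => hall d hd hdd))
  haveI := Fact.mk hp
  obtain ⟨⟨y, hy⟩, hyo⟩ := exists_prime_orderOf_dvd_card' p hpd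
  rw [← Subgroup.orderOf_coe] at hyo
  have hcomm : Commute t y := (Subgroup.mem_centralizer_singleton_iff.1 hy).symm
  refine hno (t * y) p hp hp2 ?_
  rw [hcomm.orderOf_mul_eq_mul_orderOf_of_coprime, ht, hyo]
  rw [ht, hyo]
  exact (Nat.coprime_primes Nat.prime_two hp).2 hp2.symm

theorem false_of_two_r (hG : ¬ IsMulCommutative G)
    (h5 : Nat.card (MulAction.orbitRel.Quotient (MulAut G) G) ≤ 5) {g : G} {r : ℕ} (hr : r.Prime)
    (hr2 : r ≠ 2) (hg : orderOf g = 2 * r) : False := by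
  obtain ⟨q, hq, hqd, hq2, hqr⟩ := three_primes hG Nat.prime_two hr
  haveI := Fact.mk hq
  obtain ⟨y, hy⟩ := exists_prime_orderOf_dvd_card' q hqd
  have hg2 : ∃ x : G, orderOf x = r := ⟨g ^ 2, by
    rw [orderOf_pow' g two_ne_zero, hg, Nat.gcd_eq_right (dvd_mul_right 2 r),
      Nat.mul_div_cancel_left r two_pos]⟩
  have hgr : ∃ x : G, orderOf x = 2 := ⟨g ^ r, by
    rw [orderOf_pow' g hr.ne_zero, hg, Nat.gcd_eq_right (dvd_mul_left r 2),
      Nat.mul_div_cancel _ hr.pos]⟩
  have hq2r : q ≠ 2 * r := by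
    intro h
    rcases hq.eq_one_or_self_of_dvd 2 ⟨r, h⟩ with h' | h'
    · exact absurd h' (by norm_num)
    · exact hq2 h'.symm
  have hrr : 2 ≠ 2 * r ∧ r ≠ 2 * r ∧ 1 ≠ 2 * r := by
    have := hr.two_le
    omega
  have hcases : ∀ x : G, orderOf x = 1 ∨ orderOf x = 2 ∨ orderOf x = r ∨ orderOf x = q ∨ orderOf x = 2 * r := by
    intro x
    by_contra hc
    push Not at hc
    obtain ⟨h1, h2, h3, h4, h5'⟩ := hc
    refine five_false h5 2 r q (2 * r) (orderOf x) ?_ hgr hg2 ⟨y, hy⟩ ⟨g, hg⟩ ⟨x, rfl⟩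
    simp only [List.nodup_cons, List.mem_cons, List.not_mem_nil, not_or, List.nodup_nil,
      not_false_eq_true, and_true]
    exact ⟨⟨by norm_num, hr.ne_one.symm, hq.ne_one.symm, hrr.2.2, h1.symm⟩,
      ⟨hr2.symm, hq2.symm, hrr.1, h2.symm⟩, ⟨hqr.symm, hrr.2.1, h3.symm⟩, ⟨hq2r, h4.symm⟩, h5'.symm⟩
  obtain ⟨xr, hxr⟩ := hg2
  obtain ⟨x2, hx2⟩ := hgr
  have htrans : ∀ a b : G, orderOf a = orderOf b → ∃ α : MulAut G, α a = b := by
    intro a b hab
    by_contra hc
    push Not at hc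
    have hinv : ∀ α : MulAut G, α b ≠ a := fun α h' => hc α⁻¹ (by rw [← h', MulAut.inv_apply_self])
    by_cases ha1 : orderOf a = 1
    · rw [ha1] at hab
      exact hc 1 (by rw [orderOf_eq_one_iff.1 ha1, orderOf_eq_one_iff.1 hab.symm]; rfl)
    -- replace the representative of the order of `a` by `a` and `b`
    obtain ⟨u, v, w, hu, hnd⟩ : ∃ u v w : G,
        (orderOf a = 2 ∨ orderOf a = r ∨ orderOf a = q ∨ orderOf a = 2 * r) ∧
        [orderOf a, orderOf u, orderOf v, orderOf w, 1].Nodup := by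
      rcases hcases a with h | h | h | h | h
      · exact absurd h ha1
      · refine ⟨xr, y, g, Or.inl h, ?_⟩
        rw [h, hxr, hy, hg]
        simp only [List.nodup_cons, List.mem_cons, List.not_mem_nil, not_or, List.nodup_nil,
          not_false_eq_true, and_true]
        exact ⟨⟨hr2.symm, hq2.symm, hrr.1, by norm_num⟩, ⟨hqr.symm, hrr.2.1, hr.ne_one⟩,
          ⟨hq2r, hq.ne_one⟩, hrr.2.2.symm⟩
      · refine ⟨x2, y, g, Or.inr (Or.inl h), ?_⟩
        rw [h, hx2, hy, hg]
        simp only [List.nodup_cons, List.mem_cons, List.not_mem_nil, not_or, List.nodup_nil,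
          not_false_eq_true, and_true]
        exact ⟨⟨hr2, hqr.symm, hrr.2.1, hr.ne_one⟩, ⟨hq2.symm, hrr.1, by norm_num⟩,
          ⟨hq2r, hq.ne_one⟩, hrr.2.2.symm⟩
      · refine ⟨x2, xr, g, Or.inr (Or.inr (Or.inl h)), ?_⟩
        rw [h, hx2, hxr, hg]
        simp only [List.nodup_cons, List.mem_cons, List.not_mem_nil, not_or, List.nodup_nil,
          not_false_eq_true, and_true]
        exact ⟨⟨hq2, hqr, hq2r, hq.ne_one⟩, ⟨hr2.symm, hrr.1, by norm_num⟩,
          ⟨hrr.2.1, hr.ne_one⟩, hrr.2.2.symm⟩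
      · refine ⟨x2, xr, y, Or.inr (Or.inr (Or.inr h)), ?_⟩
        rw [h, hx2, hxr, hy]
        simp only [List.nodup_cons, List.mem_cons, List.not_mem_nil, not_or, List.nodup_nil,
          not_false_eq_true, and_true]
        exact ⟨⟨hrr.1.symm, hrr.2.1.symm, hq2r.symm, hrr.2.2.symm⟩, ⟨hr2.symm, hq2.symm, by norm_num⟩,
          ⟨hqr.symm, hr.ne_one⟩, hq.ne_one⟩
    obtain ⟨i, j, hij, α, hα⟩ := exists_related h5 ![1, a, b, u, v, w]
    have hord := congrArg orderOf hα
    rw [α.orderOf_eq] at hord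
    simp only [List.nodup_cons, List.mem_cons, List.not_mem_nil, not_or, List.nodup_nil] at hnd
    fin_cases i <;> fin_cases j <;>
      first
        | exact absurd rfl hij
        | exact hc α hα
        | exact hinv α hα
        | (simp [orderOf_one, ← hab, -orderOf_eq_one_iff] at hord <;> omega)
  refine (Hyp.absurd' (G := G) (q := q) (r := r) ⟨⟨hq, hr, hq2, hr2, hqr⟩, ?_, htrans, ⟨g, hg⟩, ?_⟩)
  · intro x
    rcases hcases x with h | h | h | h | h
    · exact Or.inr (by rw [orderOf_eq_one_iff.1 h, one_pow])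
    · exact Or.inl (by rw [pow_mul, ← h, pow_orderOf_eq_one, one_pow])
    · exact Or.inl (by rw [mul_comm, pow_mul, ← h, pow_orderOf_eq_one, one_pow])
    · exact Or.inr (by rw [← h, pow_orderOf_eq_one])
    · exact Or.inl (by rw [← h, pow_orderOf_eq_one])
  · intro hp
    haveI := Fact.mk hp
    haveI := isCyclic_of_prime_card (α := G) (p := Nat.card G) rfl
    exact hG (IsMulCommutative.of_comm fun a b => (IsCyclic.commGroup (α := G)).mul_comm a b)

/-- S3406 with the CIT classification as a hypothesis. -/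
theorem main (hG : ¬ IsMulCommutative G)
    (h5 : Nat.card (MulAction.orbitRel.Quotient (MulAut G) G) ≤ 5)
    (hcls : (∀ t : G, orderOf t = 2 → IsPGroup 2 (Subgroup.centralizer ({t} : Set G))) → CITList G) :
    Nonempty (G ≃* ↥(alternatingGroup (Fin 5))) ∨ Nonempty (G ≃* ↥(alternatingGroup (Fin 6))) ∨
      (∃ (F : Type) (_ : Field F) (_ : Fintype F), (Fintype.card F = 7 ∨ Fintype.card F = 8) ∧
        Nonempty (G ≃* Matrix.ProjectiveSpecialLinearGroup (Fin 2) F)) := by
  have hno : ∀ g : G, ∀ p : ℕ, p.Prime → p ≠ 2 → orderOf g ≠ 2 * p := fun g p hp hp2 hg =>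
    false_of_two_r hG h5 hp hp2 hg
  have hcit := cit_of_orders hno
  rcases hcls hcit with ⟨F, iF, iFt, hF, ⟨φ⟩⟩ | ⟨F, iF, iFt, hF, ⟨φ⟩⟩ | hS
  · rcases hF with hF | ⟨n, hF⟩ | ⟨hp, k, hk⟩
    · exact Or.inr (Or.inl ⟨φ.trans (Cfsg.Agent.S0254.result hF).some⟩)
    · rcases Nat.lt_or_ge n 4 with hn | hn
      · interval_cases n
        · exact absurd hF (by simpa using (Fintype.one_lt_card (α := F)).ne')
        · exact (card_psl_two_small (Or.inl (by simpa using hF)) φ hG).elim
        · exact Or.inl ⟨φ.trans (Cfsg.Agent.S0252.result (by simpa using hF)).some⟩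
        · exact Or.inr (Or.inr ⟨F, iF, iFt, Or.inr (by simpa using hF), ⟨φ⟩⟩)
      · exact (false_of_even h5 φ hn hF).elim
    · rcases Nat.lt_or_ge (Fintype.card F) 11 with hlt | hge
      · obtain h | h | h | h : Fintype.card F = 2 ∨ Fintype.card F = 3 ∨ Fintype.card F = 5 ∨
            Fintype.card F = 7 := by
          have h2 := hp.two_le
          interval_cases h : Fintype.card F <;> first | omega | norm_num at hp
        · exact (card_psl_two_small (Or.inl h) φ hG).elim
        · exact (card_psl_two_small (Or.inr h) φ hG).elim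
        · exact Or.inl ⟨φ.trans (Cfsg.Agent.S0253.result h).some⟩
        · exact Or.inr (Or.inr ⟨F, iF, iFt, Or.inl h, ⟨φ⟩⟩)
      · exact (false_of_prime h5 φ hp hge hk).elim
  · exact (false_of_three_four h5 hF φ).elim
  · exact (false_of_suzuki hG h5 hcit hS).elim

end CfsgLib.FiveOrbits
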