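import Cfsg.Agent.Lib.FiveOrbits.Basic

/-!
# No simple group has element orders `1, 2, q, r, 2r` with automorphisms transitive on each order
-/

set_option autoImplicit false
set_option linter.unusedSectionVars false
set_option linter.unusedSimpArgs false
set_option linter.style.haveILetI false
set_option maxHeartbeats 1000000

namespace CfsgLib.FiveOrbits

open Finset
open scoped IsMulCommutative Pointwise

variable {G : Type*} [Group G]

theorem mem_of_smul_eq {β : MulAut G} {H : Subgroup G} (hβ : β • H = H) {a : G} (ha : a ∈ H) :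
    β a ∈ H := by
  have := Subgroup.smul_mem_pointwise_smul a β H ha
  rwa [hβ] at this

theorem mem_normalizer_of_smul_eq {β : MulAut G} {H : Subgroup G} (hβ : β • H = H) {n : G}
    (hn : n ∈ Subgroup.normalizer (H : Set G)) : β n ∈ Subgroup.normalizer (H : Set G) := by
  rw [Subgroup.mem_normalizer_iff] at hn ⊢
  intro a
  obtain ⟨b, rfl⟩ := β.surjective a
  have hmem : ∀ c, β c ∈ H ↔ c ∈ H := fun c => by
    constructor
    · intro hc
      have := mem_of_smul_eq (β := β⁻¹) (inv_smul_eq_iff.2 hβ.symm) hc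
      rwa [MulAut.inv_apply_self] at this
    · exact mem_of_smul_eq hβ
  rw [← map_inv, ← map_mul, ← map_mul, hmem, hmem]
  exact hn b

/-- If `x` fixes `d` and moves `s` to `s * d`, then `d` has order dividing `r`. -/
theorem eq_one_of_shift {x s d : G} {r : ℕ} (hr : Nat.Coprime r 2) (hx : x ^ r = 1)
    (hd : x * d * x⁻¹ = d) (hs : x * s * x⁻¹ = s * d) (hd2 : d ^ 2 = 1) : d = 1 := by
  have hpow : ∀ i : ℕ, x ^ i * s * (x ^ i)⁻¹ = s * d ^ i := by
    intro i
    induction i with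
    | zero => simp
    | succ i ih =>
      have hdi : x * d ^ i * x⁻¹ = d ^ i := by rw [← conj_pow, hd]
      calc x ^ (i + 1) * s * (x ^ (i + 1))⁻¹ = x * (x ^ i * s * (x ^ i)⁻¹) * x⁻¹ := by
            rw [pow_succ']; group
        _ = (x * s * x⁻¹) * (x * d ^ i * x⁻¹) := by rw [ih]; group
        _ = _ := by rw [hs, hdi, mul_assoc, ← pow_succ']
  have := hpow r
  rw [hx, one_mul, inv_one, mul_one] at this
  exact eq_one_of_coprime hr (left_eq_mul.1 this) hd2

namespace Hyp

variable {q r : ℕ} [Finite G] [IsSimpleGroup G] (h : Hyp G q r)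
include h

theorem sq_ne {a : G} (ha : a ^ r = 1) (ha1 : a ≠ 1) : a ^ 2 ≠ 1 := fun h2 =>
  ha1 (eq_one_of_coprime h.two.r_two ha h2)

theorem eq_one_of_r_commute {g y : G} (hg : g ^ q = 1) (hy : y ^ r = 1) (hy1 : y ≠ 1)
    (hc : g * y = y * g) : g = 1 :=
  (h.ord.eq_one_of_commute h.two hg (by rw [mul_comm, pow_mul, hy, one_pow]) hc).resolve_right hy1

theorem eq_one_of_two_commute {g y : G} (hg : g ^ q = 1) (hy : y ^ 2 = 1) (hy1 : y ≠ 1)
    (hc : g * y = y * g) : g = 1 :=
  (h.ord.eq_one_of_commute h.two hg (by rw [pow_mul, hy, one_pow]) hc).resolve_right hy1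

/-- An `r`-element normalising a Sylow `r`-subgroup lies in it. -/
theorem mem_of_normalizes (R : Sylow r G) {n : G} (hn : n ∈ Subgroup.normalizer ((R : Subgroup G) : Set G))
    (hr : n ^ r = 1) : n ∈ (R : Subgroup G) := by
  have hzp : IsPGroup r (Subgroup.zpowers n) := by
    rintro ⟨_, j, rfl⟩
    refine ⟨1, Subtype.ext ?_⟩
    show (n ^ j) ^ (r ^ 1) = 1
    rw [pow_one, ← zpow_natCast, ← zpow_mul, mul_comm, zpow_mul, zpow_natCast, hr, one_zpow]
  have := R.3 (hzp.to_sup_of_normal_right' R.2 (Subgroup.zpowers_le.2 hn)) le_sup_right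
  exact this.le (Subgroup.mem_sup_left (Subgroup.mem_zpowers n))

/-- Type I is impossible. -/
theorem false_of_type_one (R : Sylow r G)
    (hI : ∀ x ∈ (R : Subgroup G), x ≠ 1 →
      ∃ n ∈ Subgroup.normalizer ((R : Subgroup G) : Set G), n ^ 2 = 1 ∧ n ≠ 1 ∧ n * x = x * n) :
    False := by
  haveI := h.fact_r
  haveI hA : IsMulCommutative (R : Subgroup G) :=
    IsMulCommutative.of_comm fun a b => Subtype.ext (h.sylow_r_comm R a a.2 b b.2)
  set N := Subgroup.normalizer ((R : Subgroup G) : Set G) with hN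
  set ρ := conjHom (R : Subgroup G) N le_rfl with hρ
  have hact := h.act (R : Subgroup G) R.2 (le_refl N)
  rw [← hρ] at hact
  have hR1 : ∀ n : N, (n : G) ∈ (R : Subgroup G) → ρ n = 1 := fun n hn =>
    (conjHom_eq_one_iff le_rfl n).2 fun a ha => h.sylow_r_comm R _ hn a ha
  have hord : ∀ y : ρ.range, y ^ 2 = 1 ∨ y ^ q = 1 := by
    rintro ⟨_, n, rfl⟩
    rcases h.ord (n : G) with h' | h'
    · refine Or.inl (Subtype.ext ?_)
      show ρ n ^ 2 = 1
      rw [← map_pow]
      refine hR1 _ (h.mem_of_normalizes R (n ^ 2).2 ?_)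
      rw [SubgroupClass.coe_pow, ← pow_mul, h']
    · refine Or.inr (Subtype.ext ?_)
      show ρ n ^ q = 1
      rw [← map_pow, show n ^ q = 1 from Subtype.ext h', map_one]
  have hI' : ∀ a : (R : Subgroup G), a ≠ 1 → ∃ y : ρ.range, y ^ 2 = 1 ∧ y ≠ 1 ∧ y.1 a = a := by
    intro a ha
    obtain ⟨n, hn, hn2, hn1, hna⟩ := hI a a.2 fun h' => ha (Subtype.ext h')
    refine ⟨ρ.rangeRestrict ⟨n, hn⟩, ?_, ?_, ?_⟩
    · rw [← map_pow, show (⟨n, hn⟩ : N) ^ 2 = 1 from Subtype.ext hn2, map_one]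
    · intro h'
      have hc : ρ ⟨n, hn⟩ = 1 := congrArg Subtype.val h'
      have hmem := h.centralizer_eq R (h.sylow_r_ne_bot R) ((conjHom_eq_one_iff le_rfl _).1 hc)
      exact h.sq_ne (h.pow_r R.2 hmem) hn1 hn2
    · refine Subtype.ext ?_
      show n * (a : G) * n⁻¹ = a
      rw [hna, mul_inv_cancel_right]
  obtain ⟨⟨x₀, hx₀⟩, hx₀1⟩ := Subgroup.ne_bot_iff_exists_ne_one.1 (h.sylow_r_ne_bot R)
  obtain ⟨e, he2, he1, -⟩ := hI' ⟨x₀, hx₀⟩ hx₀1
  -- every element of the image is an involution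
  have hexp : ∀ y : ρ.range, y ^ 2 = 1 := by
    obtain ⟨a, ha⟩ : ∃ a, e.1 a ≠ a := by
      by_contra hc
      push Not at hc
      exact he1 (Subtype.ext (MulEquiv.ext hc))
    set y := a * (e.1 a)⁻¹ with hy
    have hee : e.1 (e.1 a) = a := by
      rw [← MulAut.mul_apply, ← Subgroup.coe_mul, ← sq, he2]; rfl
    have hey : e.1 y = y⁻¹ := by rw [hy, map_mul, map_inv, hee, mul_inv_rev, inv_inv]
    have hy1 : y ≠ 1 := fun h' => ha (mul_inv_eq_one.1 h').symm
    obtain ⟨f, hf2, hf1, hfy⟩ := hI' y hy1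
    have hyinv : y⁻¹ ≠ y := fun h' => h.sq_ne (h.pow_r R.2 y.2) (fun h'' => hy1 (Subtype.ext h'')) (by
      rw [sq]
      exact congrArg Subtype.val ((congrArg (· * y) h').symm.trans (inv_mul_cancel y)))
    have hfe : (f * e) ^ 2 = 1 := by
      refine (hord (f * e)).resolve_right fun hq => hyinv ?_
      have hg : (f * e).1 y = y⁻¹ := by
        rw [Subgroup.coe_mul, MulAut.mul_apply, hey, map_inv, hfy]
      have hpow : ∀ i : ℕ, ((f * e).1 ^ (2 * i + 1)) y = y⁻¹ := by
        intro i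
        induction i with
        | zero => rw [mul_zero, zero_add, pow_one, hg]
        | succ i ih =>
          rw [show 2 * (i + 1) + 1 = 2 * i + 1 + 1 + 1 by ring, pow_succ, MulAut.mul_apply, hg,
            map_inv, pow_succ, MulAut.mul_apply, hg, map_inv, inv_inv, ih]
      obtain ⟨k, hk⟩ := h.two.hq.odd_of_ne_two h.two.q2
      have h1 := hpow k
      rw [← hk, ← SubgroupClass.coe_pow, hq] at h1
      exact h1.symm
    have hcomm : f * e = e * f := by
      have h1 : f⁻¹ = f := inv_eq_of_mul_eq_one_right (by rw [← sq, hf2])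
      have h2 : e⁻¹ = e := inv_eq_of_mul_eq_one_right (by rw [← sq, he2])
      have h3 : (f * e)⁻¹ = f * e := inv_eq_of_mul_eq_one_right (by rw [← sq, hfe])
      rw [← h3, mul_inv_rev, h1, h2]
    have hne : f * e ≠ 1 := by
      intro h'
      have h2 : e⁻¹ = e := inv_eq_of_mul_eq_one_right (by rw [← sq, he2])
      rw [mul_eq_one_iff_eq_inv, h2] at h'
      rw [h'] at hfy
      exact hyinv (hey.symm.trans hfy)
    obtain ⟨W, hWn, hWodd, hW⟩ := hact.exists_odd_normal h.two
    haveI := hWn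
    have hWodd1 : ∀ w ∈ W, w ^ 2 = 1 → w = 1 := fun w hw h2 =>
      eq_one_of_coprime hWodd.coprime_two_left h2
        (congrArg Subtype.val (pow_card_eq_one' (x := (⟨w, hw⟩ : W))))
    have hWq : ∀ w ∈ W, w ^ q = 1 := fun w hw => by
      rcases hord w with h2 | h2
      · rw [hWodd1 w hw h2, one_pow]
      · exact h2
    have hinvW : ∀ c : ρ.range, c ^ 2 = 1 → c ≠ 1 → ∀ w ∈ W, c * w * c⁻¹ = w⁻¹ := by
      intro c hc2 hc1 w hw
      have hfpf : MonoidHom.FixedPointFree (MulAut.conjNormal c : MulAut W) := by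
        rintro ⟨v, hv⟩ hvv
        have hcv : c * v * c⁻¹ = v := congrArg Subtype.val hvv
        refine Subtype.ext ((hact.ord.eq_one_of_commute h.two (hWq v hv) (y := c)
          (by rw [pow_mul, hc2, one_pow]) ?_).resolve_right hc1)
        exact (mul_inv_eq_iff_eq_mul.1 hcv).symm
      have hinv : Function.Involutive (MulAut.conjNormal c : MulAut W) := by
        intro v
        rw [← MulAut.mul_apply, ← map_mul, ← sq, hc2, map_one]
        rfl
      exact congrArg Subtype.val (congrFun (hfpf.coe_eq_inv_of_involutive hinv) ⟨w, hw⟩)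
    have hWbot : ∀ w ∈ W, w = 1 := by
      intro w hw
      have h1 := hinvW e he2 he1 w hw
      have h2 := hinvW f hf2 hf1 _ (W.inv_mem hw)
      have h3 := hinvW (f * e) hfe hne w hw
      rw [inv_inv] at h2
      have h4 : (f * e) * w * (f * e)⁻¹ = w := by
        calc (f * e) * w * (f * e)⁻¹ = f * (e * w * e⁻¹) * f⁻¹ := by group
          _ = w := by rw [h1, h2]
      refine hWodd1 w hw ?_
      rw [sq]
      nth_rewrite 1 [← h4]
      rw [h3, inv_mul_cancel]
    intro y
    rcases hord y with h2 | h2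
    · exact h2
    · rw [hWbot y (hW q y (h.two.hq.odd_of_ne_two h.two.q2) h2), one_pow]
  have hXcomm : ∀ y z : ρ.range, y * z = z * y := fun y z => by
    have h1 : ∀ c : ρ.range, c⁻¹ = c := fun c => inv_eq_of_mul_eq_one_right (by rw [← sq, hexp c])
    rw [← h1 (y * z), mul_inv_rev, h1, h1]
  classical
  haveI := Fintype.ofFinite ρ.range
  obtain ⟨b, hb1, hb⟩ : ∃ b : (R : Subgroup G), b ≠ 1 ∧
      ∀ y ∈ (Finset.univ : Finset ρ.range), y.1 b = b ∨ y.1 b = b⁻¹ := by
    induction (Finset.univ : Finset ρ.range) using Finset.induction_on with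
    | empty => exact ⟨⟨x₀, hx₀⟩, hx₀1, fun y hy => absurd hy (Finset.notMem_empty y)⟩
    | insert c s hcs ih =>
      obtain ⟨b, hb1, hb⟩ := ih
      by_cases hcb : c.1 b = b⁻¹
      · exact ⟨b, hb1, fun y hy => (Finset.mem_insert.1 hy).elim (fun hyc => Or.inr (hyc ▸ hcb)) (hb y)⟩
      · refine ⟨b * c.1 b, fun h' => hcb (eq_inv_of_mul_eq_one_right h'), fun y hy => ?_⟩
        have hyc : ∀ z, y.1 (c.1 z) = c.1 (y.1 z) := fun z => by
          rw [← MulAut.mul_apply, ← MulAut.mul_apply, ← Subgroup.coe_mul, ← Subgroup.coe_mul, hXcomm y c]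
        rcases Finset.mem_insert.1 hy with rfl | hy'
        · left
          rw [map_mul, ← MulAut.mul_apply, ← Subgroup.coe_mul, ← sq, hexp y]
          exact mul_comm' _ _
        · rw [map_mul, hyc]
          rcases hb y hy' with h2 | h2
          · left; rw [h2]
          · right; rw [h2, map_inv, mul_inv_rev]; exact mul_comm' _ _
  have hbN : ∀ n ∈ N, n * (b : G) * n⁻¹ = b ∨ n * (b : G) * n⁻¹ = (b : G)⁻¹ := by
    intro n hn
    rcases hb (ρ.rangeRestrict ⟨n, hn⟩) (Finset.mem_univ _) with h2 | h2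
    · exact Or.inl (congrArg Subtype.val h2)
    · exact Or.inr (congrArg Subtype.val h2)
  -- eigen vectors everywhere
  have heig : ∀ n ∈ N, ∀ a ∈ (R : Subgroup G), n * a * n⁻¹ = a ∨ n * a * n⁻¹ = a⁻¹ := by
    intro n hn a ha
    by_cases ha1 : a = 1
    · left; simp [ha1]
    obtain ⟨β, hβa, hβR⟩ := h.exists_aut_sylow_r R ha ha1 b.2 (fun h' => hb1 (Subtype.ext h'))
    have hmem := hbN (β n) (mem_normalizer_of_smul_eq (congrArg (fun P : Sylow r G => (P : Subgroup G)) hβR) hn)
    rw [← hβa, ← map_inv, ← map_mul, ← map_mul, ← map_inv] at hmem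
    exact hmem.imp (fun h2 => β.injective h2) (fun h2 => β.injective h2)
  obtain ⟨n, hn, hn2, hn1, hnx⟩ := hI x₀ hx₀ fun h' => hx₀1 (Subtype.ext h')
  have hnall : ∀ a ∈ (R : Subgroup G), n * a = a * n := by
    intro a ha
    rcases heig n hn a ha with h2 | h2
    · exact mul_inv_eq_iff_eq_mul.1 h2
    have hx₀a : n * (x₀ * a) * n⁻¹ = x₀ * a⁻¹ := by
      calc n * (x₀ * a) * n⁻¹ = (n * x₀ * n⁻¹) * (n * a * n⁻¹) := by group
        _ = _ := by rw [h2, hnx, mul_inv_cancel_right]
    rcases heig n hn _ (mul_mem hx₀ ha) with h3 | h3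
    · rw [hx₀a, mul_right_inj] at h3
      rw [h3] at h2
      exact mul_inv_eq_iff_eq_mul.1 h2
    · rw [hx₀a, mul_inv_rev] at h3
      have hc := h.sylow_r_comm R a⁻¹ (inv_mem ha) x₀⁻¹ (inv_mem hx₀)
      rw [hc, mul_left_inj] at h3
      exact absurd (eq_inv_iff_mul_eq_one.1 h3) (by rw [← sq]; exact h.sq_ne (h.pow_r R.2 hx₀) fun h' => hx₀1 (Subtype.ext h'))
  exact h.sq_ne (h.pow_r R.2 (h.centralizer_eq R (h.sylow_r_ne_bot R) hnall)) hn1 hn2

/-- Type II: a Sylow 2-subgroup is normalised by a Sylow `r`-subgroup. -/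
theorem exists_sylow_two_normalized (R : Sylow r G) {x : G} (hx : x ∈ (R : Subgroup G)) (hx1 : x ≠ 1)
    (hII : ∀ a ∈ (R : Subgroup G), a ≠ 1 → ∀ n ∈ Subgroup.normalizer ((R : Subgroup G) : Set G),
      n ^ 2 = 1 → n * a = a * n → n = 1) :
    ∃ S : Sylow 2 G, (R : Subgroup G) ≤ Subgroup.normalizer ((S : Subgroup G) : Set G) ∧
      ∃ t ∈ (S : Subgroup G), t ≠ 1 ∧ x * t = t * x := by
  haveI := h.fact_r
  haveI : Fact (Nat.Prime 2) := ⟨Nat.prime_two⟩
  have hxr := h.pow_r R.2 hx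
  obtain ⟨t, ht2, ht1, htx⟩ : ∃ t : G, t ^ 2 = 1 ∧ t ≠ 1 ∧ x * t = t * x := by
    obtain ⟨g, hg⟩ := h.exists_two_r
    have hs : orderOf (g ^ 2) = r := by
      rw [orderOf_pow' g two_ne_zero, hg, Nat.gcd_eq_right (dvd_mul_right 2 r),
        Nat.mul_div_cancel_left r two_pos]
    have ht : orderOf (g ^ r) = 2 := by
      rw [orderOf_pow' g h.two.hr.ne_zero, hg, Nat.gcd_eq_right (dvd_mul_left r 2),
        Nat.mul_div_cancel _ h.two.hr.pos]
    obtain ⟨α, hα⟩ := h.trans _ x (hs.trans (orderOf_eq_prime hxr hx1).symm)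
    refine ⟨α (g ^ r), by rw [← map_pow, ← ht, pow_orderOf_eq_one, map_one], fun h' => ?_, ?_⟩
    · have := (MulEquiv.map_eq_one_iff α).1 h'
      rw [this, orderOf_one] at ht
      omega
    · rw [← hα, ← map_mul, ← map_mul, (Commute.pow_pow (Commute.refl g) 2 r).eq]
  set C := Subgroup.centralizer ({x} : Set G) with hC
  have hRC : (R : Subgroup G) ≤ C := fun a ha => mem_centralizer_singleton.2 (h.sylow_r_comm R x hx a ha)
  set RC : Sylow r C := R.subtype hRC with hRCdef
  have hmemRC : ∀ n : C, n ∈ (RC : Subgroup C) ↔ (n : G) ∈ (R : Subgroup G) := fun n => by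
    rw [hRCdef, Sylow.coe_subtype, Subgroup.mem_subgroupOf]
  have hC2r : ∀ n : C, (n : G) ^ (2 * r) = 1 := fun n => (h.ord (n : G)).elim id fun h' => by
    rw [h.eq_one_of_r_commute h' hxr hx1 (mem_centralizer_singleton.1 n.2).symm, one_pow]
  have hNC : Subgroup.normalizer ((RC : Subgroup C) : Set C) ≤ Subgroup.centralizer ((RC : Subgroup C) : Set C) := by
    intro n hn
    have hnR : (n : G) ∈ Subgroup.normalizer ((R : Subgroup G) : Set G) := by
      rw [Subgroup.mem_normalizer_iff] at hn ⊢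
      intro a
      constructor
      · intro ha
        exact (hmemRC _).1 ((hn ⟨a, hRC ha⟩).1 ((hmemRC _).2 ha))
      · intro ha
        have haC : a ∈ C := by
          have := C.mul_mem (C.mul_mem (C.inv_mem n.2) (hRC ha)) n.2
          simpa [mul_assoc] using this
        exact (hmemRC _).1 ((hn ⟨a, haC⟩).2 ((hmemRC _).2 ha))
    have ht' : (n : G) ^ r = 1 := hII x hx hx1 _ (pow_mem hnR r) (by rw [← pow_mul, mul_comm, hC2r n])
      (((show Commute (n : G) x from (mem_centralizer_singleton.1 n.2).symm)).pow_left r).eq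
    have hnmem := h.mem_of_normalizes R hnR ht'
    rw [Subgroup.mem_centralizer_iff]
    intro a ha
    exact Subtype.ext (h.sylow_r_comm R a ((hmemRC a).1 ha) _ hnmem)
  set τ := MonoidHom.transferSylow RC hNC with hτ
  set V : Subgroup G := τ.ker.map C.subtype with hV
  have hVsq : ∀ v ∈ V, v ^ 2 = 1 := by
    rintro _ ⟨v, hv, rfl⟩
    have hzp : IsPGroup r (Subgroup.zpowers (v ^ 2)) := by
      rintro ⟨_, j, rfl⟩
      refine ⟨1, Subtype.ext (Subtype.ext ?_)⟩
      show (((v : G) ^ 2) ^ j) ^ (r ^ 1) = 1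
      rw [pow_one, ← zpow_natCast, ← zpow_mul, mul_comm, zpow_mul, zpow_natCast, ← pow_mul, hC2r v, one_zpow]
    have := (MonoidHom.ker_transferSylow_disjoint RC hNC _ hzp).le_bot
      (Subgroup.mem_inf.2 ⟨τ.ker.pow_mem hv 2, Subgroup.mem_zpowers _⟩)
    exact congrArg Subtype.val (Subgroup.mem_bot.1 this)
  have htV : t ∈ V := by
    refine ⟨⟨t, mem_centralizer_singleton.2 htx⟩, ?_, rfl⟩
    rw [SetLike.mem_coe, MonoidHom.mem_ker]
    refine Subtype.ext (Subtype.ext ?_)
    refine eq_one_of_coprime h.two.r_two (h.pow_r R.2 ((hmemRC _).1 (τ _).2)) ?_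
    have h1 : τ ⟨t, mem_centralizer_singleton.2 htx⟩ ^ 2 = 1 := by
      rw [← map_pow, show (⟨t, mem_centralizer_singleton.2 htx⟩ : C) ^ 2 = 1 from Subtype.ext ht2, map_one]
    exact congrArg (fun z : (RC : Subgroup C) => ((z : C) : G)) h1
  have hVcomm : ∀ u ∈ V, ∀ v ∈ V, u * v = v * u := by
    have h1 : ∀ c ∈ V, c⁻¹ = c := fun c hc => inv_eq_of_mul_eq_one_right (by rw [← sq, hVsq c hc])
    intro u hu v hv
    rw [← h1 _ (mul_mem hu hv), mul_inv_rev, h1 u hu, h1 v hv]
  have hVN : ∀ a ∈ (R : Subgroup G), ∀ v ∈ V, a * v * a⁻¹ ∈ V := by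
    rintro a ha _ ⟨v, hv, rfl⟩
    let aC : C := ⟨a, hRC ha⟩
    refine ⟨aC * v * aC⁻¹, ?_, ?_⟩
    · exact (MonoidHom.normal_ker τ).conj_mem v hv aC
    · simp only [map_mul, map_inv, Subgroup.subtype_apply, aC]
  set L : Subgroup G := Subgroup.centralizer (V : Set G) with hL
  have hLt : ∀ l ∈ L, l * t = t * l := fun l hl => (Subgroup.mem_centralizer_iff.1 hl t htV).symm
  have hL2r : ∀ l ∈ L, l ^ (2 * r) = 1 := fun l hl => (h.ord l).elim id fun h' => by
    rw [h.eq_one_of_two_commute h' ht2 ht1 (hLt l hl), one_pow]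
  have hRL : (R : Subgroup G) ≤ Subgroup.normalizer (L : Set G) := by
    have key : ∀ a ∈ (R : Subgroup G), ∀ l ∈ L, a * l * a⁻¹ ∈ L := by
      intro a ha l hl
      rw [Subgroup.mem_centralizer_iff]
      intro v hv
      have h1 := Subgroup.mem_centralizer_iff.1 hl _ (hVN a⁻¹ (inv_mem ha) v hv)
      rw [inv_inv] at h1
      calc v * (a * l * a⁻¹) = a * ((a⁻¹ * v * a) * l) * a⁻¹ := by group
        _ = _ := by rw [h1]; group
    intro a ha
    rw [Subgroup.mem_normalizer_iff]
    refine fun l => ⟨key a ha l, fun hl => ?_⟩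
    have := key a⁻¹ (inv_mem ha) _ hl
    simpa [mul_assoc] using this
  set M : Subgroup G := (R : Subgroup G) ⊔ L with hM
  have hMset : ∀ y ∈ M, ∃ a ∈ (R : Subgroup G), ∃ l ∈ L, a * l = y := by
    intro y hy
    have : y ∈ ((R : Subgroup G) ⊔ L : Subgroup G) := hy
    rw [← SetLike.mem_coe, Subgroup.coe_mul_of_left_le_normalizer_right _ _ hRL] at this
    exact Set.mem_mul.1 this
  have hMN : ∀ y ∈ M, y ∈ Subgroup.normalizer (L : Set G) := sup_le hRL Subgroup.le_normalizer
  have hM2r : ∀ y ∈ M, y ^ (2 * r) = 1 := by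
    intro y hy
    refine (h.ord y).elim id fun h' => ?_
    obtain ⟨a, ha, l, hl, rfl⟩ := hMset y hy
    have hpow : ∀ i : ℕ, ∃ l' ∈ L, (a * l) ^ i = a ^ i * l' := by
      intro i
      induction i with
      | zero => exact ⟨1, one_mem _, by simp⟩
      | succ i ih =>
        obtain ⟨l', hl', he⟩ := ih
        refine ⟨a⁻¹ * l' * a * l, mul_mem ?_ hl, by rw [pow_succ, he, pow_succ]; group⟩
        exact (Subgroup.mem_normalizer_iff''.1 (hRL ha) l').1 hl'
    obtain ⟨l', hl', he⟩ := hpow q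
    rw [h'] at he
    have haq : a ^ q ∈ L := by rw [eq_inv_of_mul_eq_one_left he.symm]; exact inv_mem hl'
    have haL : a ∈ L := by
      obtain ⟨m, hm⟩ := exists_pow_eq_self_of_coprime
        (h.two.q_r.coprime_dvd_right (orderOf_dvd_of_pow_eq_one (h.pow_r R.2 ha)))
      rw [← hm]; exact pow_mem haq m
    exact hL2r _ (mul_mem haL hl)
  have hRM : (R : Subgroup G) ≤ M := le_sup_left
  set RM : Sylow r M := R.subtype hRM with hRMdef
  have hmemRM : ∀ n : M, n ∈ (RM : Subgroup M) ↔ (n : G) ∈ (R : Subgroup G) := fun n => by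
    rw [hRMdef, Sylow.coe_subtype, Subgroup.mem_subgroupOf]
  have hNM : Subgroup.normalizer ((RM : Subgroup M) : Set M) ≤ Subgroup.centralizer ((RM : Subgroup M) : Set M) := by
    intro n hn
    have hnR : (n : G) ∈ Subgroup.normalizer ((R : Subgroup G) : Set G) := by
      rw [Subgroup.mem_normalizer_iff] at hn ⊢
      intro a
      constructor
      · intro ha
        exact (hmemRM _).1 ((hn ⟨a, hRM ha⟩).1 ((hmemRM _).2 ha))
      · intro ha
        have haC : a ∈ M := by
          have := M.mul_mem (M.mul_mem (M.inv_mem n.2) (hRM ha)) n.2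
          simpa [mul_assoc] using this
        exact (hmemRM _).1 ((hn ⟨a, haC⟩).2 ((hmemRM _).2 ha))
    set u := (n : G) ^ r with hu
    have hu2 : u ^ 2 = 1 := by rw [hu, ← pow_mul, mul_comm, hM2r _ n.2]
    have hu1 : u = 1 := by
      by_contra hu1
      have huR : u ∈ Subgroup.normalizer ((R : Subgroup G) : Set G) := pow_mem hnR r
      -- u inverts R
      have hinv : ∀ b ∈ (R : Subgroup G), u * b * u⁻¹ = b⁻¹ := by
        intro b hb
        have hbu : u * b * u⁻¹ ∈ (R : Subgroup G) := (Subgroup.mem_normalizer_iff.1 huR b).1 hb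
        refine eq_inv_of_mul_eq_one_right ?_
        by_contra hne
        have huu : u⁻¹ = u := inv_eq_of_mul_eq_one_right (by rw [← sq, hu2])
        have hfix : u * (b * (u * b * u⁻¹)) * u⁻¹ = b * (u * b * u⁻¹) := by
          calc u * (b * (u * b * u⁻¹)) * u⁻¹ = (u * b * u⁻¹) * ((u * u) * b * (u * u)⁻¹) := by group
            _ = _ := by rw [← sq, hu2, one_mul, inv_one, mul_one, h.sylow_r_comm R _ hbu b hb]
        exact hu1 (hII _ (mul_mem hb hbu) hne u huR hu2 (mul_inv_eq_iff_eq_mul.1 hfix))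
      obtain ⟨a, ha, l, hl, hal⟩ := hMset u (pow_mem n.2 r)
      have hRinL : (R : Subgroup G) ≤ L := by
        intro b hb
        have h1 : l * b * l⁻¹ * b⁻¹ ∈ L := by
          have : b * l⁻¹ * b⁻¹ ∈ L := (Subgroup.mem_normalizer_iff.1 (hRL hb) _).1 (inv_mem hl)
          have := mul_mem hl this
          simpa [mul_assoc] using this
        have h2 : l * b * l⁻¹ = b⁻¹ := by
          calc l * b * l⁻¹ = a⁻¹ * ((a * l) * b * (a * l)⁻¹) * a := by group
            _ = b⁻¹ := by
              rw [hal, hinv b hb, mul_assoc, h.sylow_r_comm R _ (inv_mem hb) a ha, inv_mul_cancel_left]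
        rw [h2, ← mul_inv_rev, ← sq, inv_mem_iff] at h1
        obtain ⟨m, hm⟩ := exists_pow_eq_self_of_coprime
          (h.two.r_two.symm.coprime_dvd_right (orderOf_dvd_of_pow_eq_one (h.pow_r R.2 hb)))
        rw [← hm]; exact pow_mem h1 m
      have htR := h.centralizer_eq R (h.sylow_r_ne_bot R) fun b hb => (hLt b (hRinL hb)).symm
      exact h.sq_ne (h.pow_r R.2 htR) ht1 ht2
    have hnmem := h.mem_of_normalizes R hnR hu1
    rw [Subgroup.mem_centralizer_iff]
    intro a ha
    exact Subtype.ext (h.sylow_r_comm R a ((hmemRM a).1 ha) _ hnmem)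
  set σ := MonoidHom.transferSylow RM hNM with hσ
  set S' : Subgroup G := σ.ker.map M.subtype with hS'
  have hS'sq : ∀ v ∈ S', v ^ 2 = 1 := by
    rintro _ ⟨v, hv, rfl⟩
    have hzp : IsPGroup r (Subgroup.zpowers (v ^ 2)) := by
      rintro ⟨_, j, rfl⟩
      refine ⟨1, Subtype.ext (Subtype.ext ?_)⟩
      show (((v : G) ^ 2) ^ j) ^ (r ^ 1) = 1
      rw [pow_one, ← zpow_natCast, ← zpow_mul, mul_comm, zpow_mul, zpow_natCast, ← pow_mul,
        hM2r v v.2, one_zpow]
    have := (MonoidHom.ker_transferSylow_disjoint RM hNM _ hzp).le_bot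
      (Subgroup.mem_inf.2 ⟨σ.ker.pow_mem hv 2, Subgroup.mem_zpowers _⟩)
    exact congrArg Subtype.val (Subgroup.mem_bot.1 this)
  have hS'mem : ∀ s ∈ M, s ^ 2 = 1 → s ∈ S' := by
    intro s hs hs2
    refine ⟨⟨s, hs⟩, ?_, rfl⟩
    rw [SetLike.mem_coe, MonoidHom.mem_ker]
    refine Subtype.ext (Subtype.ext ?_)
    refine eq_one_of_coprime h.two.r_two (h.pow_r R.2 ((hmemRM _).1 (σ _).2)) ?_
    have h1 : σ ⟨s, hs⟩ ^ 2 = 1 := by
      rw [← map_pow, show (⟨s, hs⟩ : M) ^ 2 = 1 from Subtype.ext hs2, map_one]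
    exact congrArg (fun z : (RM : Subgroup M) => ((z : M) : G)) h1
  have hVp : IsPGroup 2 V := fun v => ⟨1, Subtype.ext (hVsq v v.2)⟩
  obtain ⟨S, hVS⟩ := hVp.exists_le_sylow
  have hSM : (S : Subgroup G) ≤ M := fun s hs =>
    le_sup_right (a := (R : Subgroup G)) (Subgroup.mem_centralizer_iff.2 fun v hv => h.sylow_two_comm S.2 (hVS hv) hs)
  have hSS' : S' = (S : Subgroup G) :=
    S.3 (fun v => ⟨1, Subtype.ext (hS'sq v v.2)⟩) fun s hs => hS'mem s (hSM hs) (h.sylow_two_sq S.2 hs)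
  refine ⟨S, fun a ha => ?_, t, hVS htV, ht1, htx⟩
  rw [← hSS']
  have key : ∀ a ∈ (R : Subgroup G), ∀ s ∈ S', a * s * a⁻¹ ∈ S' := by
    rintro a ha _ ⟨s, hs, rfl⟩
    let aM : M := ⟨a, hRM ha⟩
    refine ⟨aM * s * aM⁻¹, ?_, ?_⟩
    · exact (MonoidHom.normal_ker σ).conj_mem s hs aM
    · simp only [map_mul, map_inv, Subgroup.subtype_apply, aM]
  rw [Subgroup.mem_normalizer_iff]
  refine fun s => ⟨key a ha s, fun hs => ?_⟩
  have := key a⁻¹ (inv_mem ha) _ hs
  simpa [mul_assoc] using this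

/-- Type II is impossible. -/
theorem false_of_type_two (R : Sylow r G)
    (hII : ∀ a ∈ (R : Subgroup G), a ≠ 1 → ∀ n ∈ Subgroup.normalizer ((R : Subgroup G) : Set G),
      n ^ 2 = 1 → n * a = a * n → n = 1) : False := by
  haveI := h.fact_r
  haveI : Fact (Nat.Prime 2) := ⟨Nat.prime_two⟩
  obtain ⟨⟨x, hx⟩, hx1'⟩ := Subgroup.ne_bot_iff_exists_ne_one.1 (h.sylow_r_ne_bot R)
  have hx1 : x ≠ 1 := fun h' => hx1' (Subtype.ext h')
  have hxr := h.pow_r R.2 hx
  obtain ⟨S, hRS, t, htS, ht1, hxt⟩ := h.exists_sylow_two_normalized R hx hx1 hII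
  have hnoR : ∀ a ∈ (R : Subgroup G), (∀ s ∈ (S : Subgroup G), a * s = s * a) → a = 1 := by
    intro a ha hall
    by_contra ha1
    exact h.false_of_class ha1 S hall R fun b hb => h.sylow_r_comm R a ha b hb
  haveI hA : IsMulCommutative (S : Subgroup G) :=
    IsMulCommutative.of_comm fun a b => Subtype.ext (h.sylow_two_comm S.2 a.2 b.2)
  set N := Subgroup.normalizer ((S : Subgroup G) : Set G) with hN
  set σ := conjHom (S : Subgroup G) N le_rfl with hσ
  have hS1 : ∀ n : N, (n : G) ∈ (S : Subgroup G) → σ n = 1 := fun n hn =>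
    (conjHom_eq_one_iff le_rfl n).2 fun a ha => h.sylow_two_comm S.2 hn ha
  have hord : ∀ y : σ.range, y ^ r = 1 ∨ y ^ q = 1 := by
    rintro ⟨_, n, rfl⟩
    rcases h.ord (n : G) with h' | h'
    · refine Or.inl (Subtype.ext ?_)
      show σ n ^ r = 1
      rw [← map_pow]
      refine hS1 _ ?_
      have hzp : IsPGroup 2 (Subgroup.zpowers ((n : G) ^ r)) := by
        rintro ⟨_, j, rfl⟩
        refine ⟨1, Subtype.ext ?_⟩
        show (((n : G) ^ r) ^ j) ^ (2 ^ 1) = 1
        rw [pow_one, ← zpow_natCast, ← zpow_mul, mul_comm, zpow_mul, zpow_natCast, ← pow_mul,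
          mul_comm, h', one_zpow]
      have := S.3 (hzp.to_sup_of_normal_right' S.2 (Subgroup.zpowers_le.2 (pow_mem n.2 r))) le_sup_right
      exact this.le (Subgroup.mem_sup_left (by simp))
    · refine Or.inr (Subtype.ext ?_)
      show σ n ^ q = 1
      rw [← map_pow, show n ^ q = 1 from Subtype.ext h', map_one]
  have hord2 : Ord q r σ.range := fun y =>
    (hord y).imp (fun h' => by rw [mul_comm, pow_mul, h', one_pow]) id
  have hodd : Odd (Nat.card (⊤ : Subgroup σ.range)) := by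
    rw [Subgroup.card_top, ← Nat.not_even_iff_odd, even_iff_two_dvd]
    intro hd
    obtain ⟨y, hy⟩ := exists_prime_orderOf_dvd_card' 2 hd
    rcases hord y with h' | h' <;> have h'' := hy ▸ orderOf_dvd_of_pow_eq_one h'
    · exact h.two.r2 ((Nat.prime_dvd_prime_iff_eq Nat.prime_two h.two.hr).1 h'').symm
    · exact h.two.q2 ((Nat.prime_dvd_prime_iff_eq Nat.prime_two h.two.hq).1 h'').symm
  set RX : Sylow r σ.range := (R.subtype hRS).mapSurjective σ.rangeRestrict_surjective with hRX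
  have hmemRX : ∀ y, y ∈ (RX : Subgroup σ.range) →
      ∃ g : N, (g : G) ∈ (R : Subgroup G) ∧ σ.rangeRestrict g = y := by
    intro y hy
    rw [hRX, Sylow.coe_mapSurjective] at hy
    obtain ⟨g, hg, rfl⟩ := hy
    rw [SetLike.mem_coe, Sylow.coe_subtype, Subgroup.mem_subgroupOf] at hg
    exact ⟨g, hg, rfl⟩
  have hRXab : ∀ a ∈ (RX : Subgroup σ.range), ∀ b ∈ (RX : Subgroup σ.range), a * b = b * a := by
    intro a ha b hb
    obtain ⟨a, ha', rfl⟩ := hmemRX a ha
    obtain ⟨b, hb', rfl⟩ := hmemRX b hb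
    rw [← map_mul, ← map_mul, show a * b = b * a from Subtype.ext (h.sylow_r_comm R _ ha' _ hb')]
  have hσne : ∀ a : N, (a : G) ∈ (R : Subgroup G) → a ≠ 1 → σ.rangeRestrict a ≠ 1 := by
    intro a ha ha1 h'
    exact ha1 (Subtype.ext (hnoR _ ha ((conjHom_eq_one_iff le_rfl a).1 (congrArg Subtype.val h'))))
  have hnoq : ∀ D : Subgroup σ.range, D.Normal → (∀ a ∈ D, ∀ b ∈ D, a * b = b * a) →
      (∀ a ∈ D, a ^ q = 1) → D = ⊥ := by
    intro D hD hDab hDq
    haveI := hD
    haveI : IsMulCommutative D := IsMulCommutative.of_comm fun a b => Subtype.ext (hDab a a.2 b b.2)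
    rw [Subgroup.eq_bot_iff_forall]
    intro d hd
    have hnorm : ∀ a : N, (a : G) ∈ (R : Subgroup G) → a ≠ 1 →
        NormOne r (MulAut.conjNormal (σ.rangeRestrict a) : MulAut D) := by
      intro a ha ha1 e
      set g := σ.rangeRestrict a with hg
      have hgr : g ^ r = 1 := by
        rw [hg, ← map_pow, show a ^ r = 1 from Subtype.ext (h.pow_r R.2 ha), map_one]
      have key := mul_pow_norm D.subtype g (MulAut.conjNormal g) (fun b => (MulAut.conjNormal_apply g b).symm) e r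
      rw [hgr, mul_one] at key
      rcases hord (D.subtype e * g) with h' | h'
      · exact Subtype.ext (key.symm.trans h')
      · exfalso
        have hmk : QuotientGroup.mk' D (D.subtype e * g) = QuotientGroup.mk' D g := by
          rw [map_mul, show QuotientGroup.mk' D (D.subtype e) = 1 from (QuotientGroup.eq_one_iff _).2 e.2, one_mul]
        have h1 : g ^ q ∈ D := by
          rw [← QuotientGroup.eq_one_iff (N := D), ← QuotientGroup.mk'_apply, map_pow, ← hmk, ← map_pow, h', map_one]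
        have h2 : (g ^ q) ^ r = 1 := by rw [← pow_mul, mul_comm, pow_mul, hgr, one_pow]
        have h3 : g ^ q = 1 := eq_one_of_coprime h.two.q_r (hDq _ h1) h2
        exact hσne a ha ha1 (eq_one_of_coprime h.two.q_r h3 hgr)
    obtain ⟨b, hb, hbx | hbx⟩ := h.exists_not_mem_zpowers R x
    swap
    · exact absurd hx hbx
    set xN : N := ⟨x, hRS hx⟩ with hxN
    set bN : N := ⟨b, hRS hb⟩ with hbN
    have hgi : ∀ i, 0 < i → i < r → NormOne r ((MulAut.conjNormal (σ.rangeRestrict xN) : MulAut D) ^ i) := by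
      intro i hi hir
      rw [← map_pow, ← map_pow]
      refine hnorm _ (by simpa using pow_mem hx i) fun h' => ?_
      have h'' : x ^ i = 1 := congrArg Subtype.val h'
      have := Nat.le_of_dvd hi (orderOf_eq_prime hxr hx1 ▸ orderOf_dvd_of_pow_eq_one h'')
      omega
    have hgj : ∀ j, j < r → NormOne r ((MulAut.conjNormal (σ.rangeRestrict xN) : MulAut D) ^ j *
        MulAut.conjNormal (σ.rangeRestrict bN)) := by
      intro j _
      rw [← map_pow, ← map_mul, ← map_pow, ← map_mul]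
      refine hnorm _ (by simpa using mul_mem (pow_mem hx j) hb) fun h' => hbx ?_
      have h'' : x ^ j * b = 1 := congrArg Subtype.val h'
      rw [eq_inv_of_mul_eq_one_right h'']
      exact inv_mem (pow_mem (Subgroup.mem_zpowers x) j)
    have hcomm : Commute (MulAut.conjNormal (σ.rangeRestrict xN) : MulAut D)
        (MulAut.conjNormal (σ.rangeRestrict bN)) := by
      have : Commute xN bN := Subtype.ext (h.sylow_r_comm R x hx b hb)
      exact (this.map σ.rangeRestrict).map MulAut.conjNormal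
    have h1 := pow_eq_one_of_rank_two hcomm hgi hgj ⟨d, hd⟩
    exact eq_one_of_coprime h.two.q_r (hDq d hd) (congrArg Subtype.val h1)
  have hrep : ∀ n : N, (n : G) ^ r = 1 → ∃ a : N, (a : G) ∈ (R : Subgroup G) ∧ σ n = σ a := by
    intro n hn
    have := r_elements_mem h.two hord2 RX hRXab ⊤ hodd (fun y _ => Subgroup.mem_top y) hnoq
      (σ.rangeRestrict n) (by rw [← map_pow, show n ^ r = 1 from Subtype.ext hn, map_one])
    obtain ⟨g, hg, hge⟩ := hmemRX _ this
    exact ⟨g, hg, (congrArg Subtype.val hge).symm⟩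
  -- the R-centralisers of involutions of S
  let H : G → Subgroup G := fun w => (R : Subgroup G) ⊓ Subgroup.centralizer ({w} : Set G)
  have hcount : ∀ w ∈ (S : Subgroup G), w ≠ 1 → ∀ w' ∈ (S : Subgroup G), w' ≠ 1 →
      Nat.card (H w) ≤ Nat.card (H w') := by
    intro w hw hw1 w' hw' hw'1
    obtain ⟨β, hβw, hβS⟩ : ∃ β : MulAut G, β w = w' ∧ β • (S : Subgroup G) = S := by
      obtain ⟨α, hα⟩ := h.trans w w' ((orderOf_eq_prime (h.sylow_two_sq S.2 hw) hw1).trans
        (orderOf_eq_prime (h.sylow_two_sq S.2 hw') hw'1).symm)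
      have h1 : (S : Subgroup G) ≤ Subgroup.centralizer ({w'} : Set G) := fun a ha =>
        mem_centralizer_singleton.2 (h.sylow_two_comm S.2 hw' ha)
      have h2 : ((α • S : Sylow 2 G) : Subgroup G) ≤ Subgroup.centralizer ({w'} : Set G) := fun a ha => by
        have hxm : w' ∈ ((α • S : Sylow 2 G) : Subgroup G) := by
          rw [← hα]
          show α w ∈ α • (S : Subgroup G)
          exact Subgroup.smul_mem_pointwise_smul _ _ _ hw
        exact mem_centralizer_singleton.2 (h.sylow_two_comm (α • S).2 hxm ha)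
      obtain ⟨c, hc⟩ := MulAction.exists_smul_eq (Subgroup.centralizer ({w'} : Set G))
        ((α • S : Sylow 2 G).subtype h2) (S.subtype h1)
      rw [Sylow.smul_subtype] at hc
      have hc' : (c : G) • (α • S) = S := Sylow.subtype_injective hc
      refine ⟨MulAut.conj (c : G) * α, ?_, ?_⟩
      · rw [MulAut.mul_apply, hα, MulAut.conj_apply, ← mem_centralizer_singleton.1 c.2, mul_inv_cancel_right]
      · rw [mul_smul]
        exact congrArg (fun P : Sylow 2 G => (P : Subgroup G)) hc'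
    have hex : ∀ a : H w, ∃ b : H w', ∀ s ∈ (S : Subgroup G), β a * s * (β a)⁻¹ = (b : G) * s * (b : G)⁻¹ := by
      intro a
      have haR := (Subgroup.mem_inf.1 a.2).1
      have hβN : β (a : G) ∈ N := mem_normalizer_of_smul_eq hβS (hRS haR)
      obtain ⟨b, hb, hbe⟩ := hrep ⟨β a, hβN⟩ (by
        show β (a : G) ^ r = 1
        rw [← map_pow, h.pow_r R.2 haR, map_one])
      have hact : ∀ s ∈ (S : Subgroup G), β a * s * (β a)⁻¹ = (b : G) * s * (b : G)⁻¹ := by
        intro s hs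
        have h5 := congrArg Subtype.val (DFunLike.congr_fun hbe (⟨s, hs⟩ : (S : Subgroup G)))
        rw [hσ, conjHom_apply, conjHom_apply] at h5
        exact h5
      refine ⟨⟨b, Subgroup.mem_inf.2 ⟨hb, mem_centralizer_singleton.2 ?_⟩⟩, hact⟩
      have h3 : β a * w' * (β a)⁻¹ = w' := by
        rw [← hβw, ← map_inv, ← map_mul, ← map_mul, ← mem_centralizer_singleton.1 (Subgroup.mem_inf.1 a.2).2,
          mul_inv_cancel_right]
      have h4 := hact w' hw'
      rw [h3] at h4
      exact (mul_inv_eq_iff_eq_mul.1 h4.symm).symm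
    choose F hF using hex
    refine Nat.card_le_card_of_injective F fun a a' he => ?_
    have hkill : (a : G)⁻¹ * a' = 1 := by
      refine hnoR _ (mul_mem (inv_mem (Subgroup.mem_inf.1 a.2).1) (Subgroup.mem_inf.1 a'.2).1) fun s hs => ?_
      have h1 := hF a (β s) (mem_of_smul_eq hβS hs)
      rw [he, ← hF a' (β s) (mem_of_smul_eq hβS hs), ← map_inv, ← map_inv, ← map_mul, ← map_mul,
        ← map_mul, ← map_mul] at h1
      have h2 := β.injective h1
      calc (a : G)⁻¹ * a' * s = (a : G)⁻¹ * ((a' : G) * s * (a' : G)⁻¹) * a' := by group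
        _ = _ := by rw [← h2]; group
    exact Subtype.ext (inv_mul_eq_one.1 hkill)
  -- conclusion
  obtain ⟨s, hs, hxs⟩ : ∃ s ∈ (S : Subgroup G), x * s ≠ s * x := by
    by_contra hc
    push Not at hc
    exact hx1 (hnoR x hx hc)
  have hconjS : ∀ a ∈ (R : Subgroup G), ∀ v ∈ (S : Subgroup G), a * v * a⁻¹ ∈ (S : Subgroup G) :=
    fun a ha v hv => (Subgroup.mem_normalizer_iff.1 (hRS ha) v).1 hv
  set u := s⁻¹ * (x * s * x⁻¹) with hu
  have huS : u ∈ (S : Subgroup G) := mul_mem (inv_mem hs) (hconjS x hx s hs)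
  have hus : x * s * x⁻¹ = s * u := by rw [hu, mul_inv_cancel_left]
  have hu1 : u ≠ 1 := by
    intro h'
    rw [h', mul_one] at hus
    exact hxs (mul_inv_eq_iff_eq_mul.1 hus)
  have hxu : x ∉ H u := by
    intro h'
    have hc := mem_centralizer_singleton.1 (Subgroup.mem_inf.1 h').2
    exact hu1 (eq_one_of_shift h.two.r_two hxr (by rw [← hc, mul_inv_cancel_right]) hus (h.sylow_two_sq S.2 huS))
  have hxtH : x ∈ H t := Subgroup.mem_inf.2 ⟨hx, mem_centralizer_singleton.2 hxt.symm⟩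
  have htu1 : t * u ≠ 1 := by
    intro h'
    apply hxu
    refine Subgroup.mem_inf.2 ⟨hx, mem_centralizer_singleton.2 ?_⟩
    rw [eq_inv_of_mul_eq_one_right h']
    exact ((Commute.inv_left (show Commute t x from hxt.symm))).eq
  have hinter : ∀ a, a ∈ H (t * u) → a ∈ H t ∧ a ∈ H u := by
    intro a ha
    obtain ⟨haR, hac⟩ := Subgroup.mem_inf.1 ha
    set at' := a * t * a⁻¹ with hat
    set au := a * u * a⁻¹ with hau
    have hatS : at' ∈ (S : Subgroup G) := hconjS a haR t htS
    have hauS : au ∈ (S : Subgroup G) := hconjS a haR u huS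
    have hasS : a * s * a⁻¹ ∈ (S : Subgroup G) := hconjS a haR s hs
    have hfix : at' * au = t * u := by
      rw [hat, hau, show a * t * a⁻¹ * (a * u * a⁻¹) = a * (t * u) * a⁻¹ by group,
        ← mem_centralizer_singleton.1 hac, mul_inv_cancel_right]
    set d := t⁻¹ * at' with hd
    have hdS : d ∈ (S : Subgroup G) := mul_mem (inv_mem htS) hatS
    have hd2 : d = u * au⁻¹ := by
      rw [hd, eq_mul_inv_iff_mul_eq, mul_assoc, hfix, inv_mul_cancel_left]
    have hax : a * x = x * a := h.sylow_r_comm R a haR x hx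
    have hdx : x * d * x⁻¹ = d := by
      have ht' : Commute x t := hxt
      have h1 : Commute x at' := ((show Commute x a from hax.symm).mul_right ht').mul_right
        (show Commute x a from hax.symm).inv_right
      exact mul_inv_eq_iff_eq_mul.2 ((ht'.inv_right).mul_right h1).eq
    have hshift : x * (s * (a * s * a⁻¹)⁻¹) * x⁻¹ = s * (a * s * a⁻¹)⁻¹ * d := by
      have h1 : x * (a * s * a⁻¹) * x⁻¹ = a * s * a⁻¹ * au := by
        calc x * (a * s * a⁻¹) * x⁻¹ = a * (x * s * x⁻¹) * a⁻¹ := by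
              calc x * (a * s * a⁻¹) * x⁻¹ = (x * a) * s * (x * a)⁻¹ := by group
                _ = (a * x) * s * (a * x)⁻¹ := by rw [hax]
                _ = _ := by group
          _ = _ := by rw [hus, hau]; group
      have h2 : Commute (a * s * a⁻¹) u := h.sylow_two_comm S.2 hasS huS
      have h3 : Commute (a * s * a⁻¹) au := h.sylow_two_comm S.2 hasS hauS
      calc x * (s * (a * s * a⁻¹)⁻¹) * x⁻¹ = (x * s * x⁻¹) * (x * (a * s * a⁻¹) * x⁻¹)⁻¹ := by group
        _ = s * (u * (au⁻¹ * (a * s * a⁻¹)⁻¹)) := by rw [hus, h1, mul_inv_rev]; group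
        _ = s * ((a * s * a⁻¹)⁻¹ * (u * au⁻¹)) := by
          rw [← mul_assoc u, ((h2.symm.mul_left h3.symm.inv_left).inv_right).eq]
        _ = _ := by rw [hd2]; exact (mul_assoc _ _ _).symm
    have hd1 : d = 1 := eq_one_of_shift h.two.r_two hxr hdx hshift (h.sylow_two_sq S.2 hdS)
    have hatt : a * t * a⁻¹ = t := (inv_mul_eq_one.1 hd1).symm
    have hauu : a * u * a⁻¹ = u := by
      rw [hd1] at hd2
      exact (mul_inv_eq_one.1 hd2.symm).symm
    exact ⟨Subgroup.mem_inf.2 ⟨haR, mem_centralizer_singleton.2 (mul_inv_eq_iff_eq_mul.1 hatt).symm⟩,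
      Subgroup.mem_inf.2 ⟨haR, mem_centralizer_singleton.2 (mul_inv_eq_iff_eq_mul.1 hauu).symm⟩⟩
  have hHeq : H (t * u) = H t := Subgroup.eq_of_le_of_card_ge (fun a ha => (hinter a ha).1)
    (hcount t htS ht1 _ (mul_mem htS huS) htu1)
  exact hxu (hinter x (hHeq ▸ hxtH)).2

theorem absurd' : False := by
  haveI := h.fact_r
  obtain ⟨R⟩ : Nonempty (Sylow r G) := inferInstance
  by_cases hI : ∀ x ∈ (R : Subgroup G), x ≠ 1 →
      ∃ n ∈ Subgroup.normalizer ((R : Subgroup G) : Set G), n ^ 2 = 1 ∧ n ≠ 1 ∧ n * x = x * n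
  · exact h.false_of_type_one R hI
  push Not at hI
  obtain ⟨x, hx, hx1, hn⟩ := hI
  refine h.false_of_type_two R fun a ha ha1 n hnN hn2 hna => ?_
  obtain ⟨β, hβa, hβR⟩ := h.exists_aut_sylow_r R ha ha1 hx hx1
  by_contra hn1
  refine hn (β n) (mem_normalizer_of_smul_eq (congrArg (fun P : Sylow r G => (P : Subgroup G)) hβR) hnN)
    (by rw [← map_pow, hn2, map_one]) (fun h' => hn1 ((MulEquiv.map_eq_one_iff β).1 h')) ?_
  rw [← hβa, ← map_mul, ← map_mul, hna]

end Hyp

end CfsgLib.FiveOrbits
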